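import Mathlib
import Cfsg.Agent.H634.SdDef_m3
import Cfsg.Agent.H670.SL2Odd
import Cfsg.Agent.Blocks.Basic
import Cfsg.Agent.ODD.C2.Desc
import Cfsg.Agent.ODD.AH.Main_m3
import Cfsg.Agent.H684.OQ.Alf
import Cfsg.Agent.CharactersDeep.ExtUnique
import Cfsg.Agent.ODD.Hk.Par
import Cfsg.Agent.H684.OQ.CellCard_m3
import Cfsg.Agent.FastGrp
import Cfsg.Agent.Prune
set_option linter.all false

section
prune_inst 0x7f00000000000000000000000000000000000000000000000000000000000000000000000000000000000000000000000000000000000000000000000000000000000000000000000000000000000000003ffffffffffffffffffff7ffffffbeffbdf3feffff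

section
prune_inst 0xfdbcf8fbac83ffffff7e3ffedcddfcf0a1afffe4dff943ffe0e9bf0b9f7b824bc5f38d0be210fe0ed7601410e87b03fb7eefffea6fdc7ffffd5ff45ffbff9fedf7bd08519498340f382ffee3f0778e7f00000000000000000000080000000000020c010000

-- part: ODD/FA/Irr
section
prune_inst 0x2420704535c0000000040002002010e5e10001200048800020240e0600018a4280c028408e80000008aa80010005000811000010020000000a00000000000100002b12063070a008440010000004000000000000000000000000000000000004000000000
set_option linter.all false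
open scoped Cfsg.Agent.FastGrp

/-!
# ODD, box FA: generators of the Sylow `2`-subgroup of `Fˣ` and irreducible `2`-elements (helper35)

* `Gn e w` : `w ^ 2 ^ e = -1`, `1 ≤ e` and `2 ^ (e + 2)` does not divide `|F| - 1`;
* `Gn.le_finrank` : a non-zero subspace on which `c ^ 2 ^ b = w` has dimension at least `2 ^ b`.
-/

set_option autoImplicit false

namespace Cfsg.Agent.ODD.FA

open Module

theorem dvd_card_of_free {A : Type*} [Finite A] (f : Equiv.Perm A) {n : ℕ} (h1 : f ^ 2 ^ (n + 1) = 1)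
    (h2 : ∀ a, (f ^ 2 ^ n) a ≠ a) : 2 ^ (n + 1) ∣ Nat.card A := by
  rcases isEmpty_or_nonempty A with hA | ⟨⟨a0⟩⟩
  · rw [Nat.card_of_isEmpty]
    exact dvd_zero _
  have : Fact (Nat.Prime 2) := ⟨Nat.prime_two⟩
  have ho : orderOf f = 2 ^ (n + 1) := orderOf_eq_prime_pow (fun e => h2 a0 (by rw [e]; rfl)) h1
  have hs : ∀ a : A, MulAction.stabilizer (Subgroup.zpowers f) a = ⊥ := by
    intro a
    rw [eq_bot_iff]
    rintro ⟨g, hg⟩ ha
    obtain ⟨k, rfl⟩ := (mem_powers_iff_mem_zpowers.2 hg)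
    have ha' : (f ^ k) a = a := ha
    rw [Subgroup.mem_bot]
    apply Subtype.ext
    change f ^ k = 1
    rcases Nat.eq_zero_or_pos k with rfl | hk
    · exact pow_zero f
    obtain ⟨i, m, ⟨j, rfl⟩, rfl⟩ := Nat.exists_eq_two_pow_mul_odd hk.ne'
    by_cases hi : n + 1 ≤ i
    · obtain ⟨l, rfl⟩ := Nat.exists_eq_add_of_le hi
      rw [pow_add 2 (n + 1) l, mul_assoc, pow_mul, h1, one_pow]
    · obtain ⟨l, rfl⟩ := Nat.exists_eq_add_of_le (show i ≤ n by omega)
      exfalso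
      apply h2 a
      have h3 : (f ^ (2 ^ i * (2 * j + 1))) ^ 2 ^ l = f ^ 2 ^ (i + l) := by
        rw [← pow_mul, show 2 ^ i * (2 * j + 1) * 2 ^ l = 2 ^ (i + l + 1) * j + 2 ^ (i + l) by ring, pow_add, pow_mul,
          h1, one_pow, one_mul]
      rw [← h3]
      exact Equiv.Perm.pow_apply_eq_self_of_apply_eq_self ha' _
  rw [Nat.card_congr (MulAction.selfEquivOrbitsQuotientProd hs), Nat.card_prod, Nat.card_zpowers, ho]
  exact dvd_mul_left _ _

theorem lte {Q d e b : ℕ} (hQ : 1 ≤ Q) (he : 1 ≤ e) (h1 : 2 ^ (e + 1) ∣ Q - 1) (h2 : ¬ 2 ^ (e + 2) ∣ Q - 1)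
    (h3 : 2 ^ (b + e + 1) ∣ Q ^ d - 1) : 2 ^ b ∣ d := by
  have c1 : ((Q - 1 : ℕ) : ℤ) = (Q : ℤ) - 1 := by push_cast [hQ]; ring
  have c2 : ((Q ^ d - 1 : ℕ) : ℤ) = (Q : ℤ) ^ d - 1 ^ d := by
    rw [one_pow, Nat.cast_sub (Nat.one_le_pow _ _ hQ)]
    push_cast
    ring
  have i1 : (2 : ℤ) ^ (e + 1) ∣ (Q : ℤ) - 1 := by rw [← c1]; exact_mod_cast h1
  have i2 : ¬ (2 : ℤ) ^ (e + 2) ∣ (Q : ℤ) - 1 := by rw [← c1]; exact_mod_cast h2
  have i3 : (2 : ℤ) ^ (b + e + 1) ∣ (Q : ℤ) ^ d - 1 ^ d := by rw [← c2]; exact_mod_cast h3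
  have i4 : (4 : ℤ) ∣ (Q : ℤ) - 1 := (pow_dvd_pow (2 : ℤ) (show 2 ≤ e + 1 by omega)).trans i1
  have i5 : ¬ (2 : ℤ) ∣ (Q : ℤ) := by omega
  have h4 := Int.two_pow_sub_pow' d i4 i5
  have h5 : emultiplicity (2 : ℤ) ((Q : ℤ) - 1) = (e + 1 : ℕ) := emultiplicity_eq_coe.2 ⟨i1, i2⟩
  have h6 := pow_dvd_iff_le_emultiplicity.1 i3
  rw [h4, h5, show b + e + 1 = (e + 1) + b by ring, Nat.cast_add] at h6
  have h7 : (b : ℕ∞) ≤ emultiplicity (2 : ℤ) (d : ℤ) := (ENat.add_le_add_iff_left (ENat.natCast_ne_top _)).1 h6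
  exact_mod_cast pow_dvd_iff_le_emultiplicity.2 h7

variable {F : Type*} [Field F]

/-- `w` generates the Sylow `2`-subgroup of `Fˣ`, of order `2 ^ (e + 1) ≥ 4` -/
structure Gn (e : ℕ) (w : F) : Prop where
  pos : 1 ≤ e
  pow : w ^ 2 ^ e = -1
  nd : ¬ 2 ^ (e + 2) ∣ Nat.card F - 1
  two : (2 : F) ≠ 0

namespace Gn

variable {e : ℕ} {w : F} (h : Gn e w)
include h

theorem neg_ne : (-1 : F) ≠ 1 := fun e => h.two (by linear_combination -e)

theorem pow' : w ^ 2 ^ (e + 1) = 1 := by rw [pow_succ, pow_mul, h.pow]; norm_num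

theorem ne_zero : w ≠ 0 := by
  rintro rfl
  have h1 := h.pow'
  rw [zero_pow (by positivity)] at h1
  exact zero_ne_one h1

theorem neg : Gn e (-w) := by
  refine ⟨h.pos, ?_, h.nd, h.two⟩
  rw [Even.neg_pow (Nat.even_pow.2 ⟨even_two, by have := h.pos; omega⟩), h.pow]

theorem inv : Gn e w⁻¹ := ⟨h.pos, by rw [inv_pow, h.pow, inv_neg, inv_one], h.nd, h.two⟩

theorem pow_odd {k : ℕ} (hk : Odd k) : Gn e (w ^ k) :=
  ⟨h.pos, by rw [← pow_mul, mul_comm, pow_mul, h.pow, hk.neg_one_pow], h.nd, h.two⟩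

theorem ne_sq {y : F} (hy : y ^ 2 ^ (e + 1) = 1) {j : ℕ} (hj : j ≠ 0) : w ≠ y ^ 2 ^ j := by
  rintro rfl
  obtain ⟨i, rfl⟩ := Nat.exists_eq_succ_of_ne_zero hj
  apply h.neg_ne
  rw [← h.pow, ← pow_mul, show 2 ^ i.succ * 2 ^ e = 2 ^ (e + 1) * 2 ^ i by rw [pow_succ, pow_succ]; ring, pow_mul, hy,
    one_pow]

theorem ne_one : w ≠ 1 := fun e => h.ne_sq (y := 1) (one_pow _) one_ne_zero (by rw [e, one_pow])

theorem prim : IsPrimitiveRoot w (2 ^ (e + 1)) := by
  have : Fact (Nat.Prime 2) := ⟨Nat.prime_two⟩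
  rw [IsPrimitiveRoot.iff_orderOf]
  exact orderOf_eq_prime_pow (by rw [h.pow]; exact h.neg_ne) h.pow'

theorem dvd [Finite F] : 2 ^ (e + 1) ∣ Nat.card F - 1 := by
  have := Fintype.ofFinite F
  rw [Nat.card_eq_fintype_card]
  exact h.prim.dvd_of_pow_eq_one _ (FiniteField.pow_card_sub_one_eq_one w h.ne_zero)

/-- the `2`-elements are powers of `w` -/
theorem exists_pow [Finite F] {y : F} {k : ℕ} (hy : y ^ 2 ^ k = 1) : ∃ i : ℕ, w ^ i = y := by
  have := Fintype.ofFinite F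
  have h0 : y ≠ 0 := by
    rintro rfl
    rw [zero_pow (by positivity)] at hy
    exact zero_ne_one hy
  obtain ⟨j, -, hj⟩ := (Nat.dvd_prime_pow Nat.prime_two).1 (orderOf_dvd_of_pow_eq_one hy)
  have h1 : 2 ^ j ∣ Nat.card F - 1 := by
    rw [← hj, Nat.card_eq_fintype_card]
    exact orderOf_dvd_of_pow_eq_one (FiniteField.pow_card_sub_one_eq_one y h0)
  have h2 : j ≤ e + 1 := by
    by_contra hc
    exact h.nd ((pow_dvd_pow 2 (by omega)).trans h1)
  obtain ⟨i, -, hi⟩ := h.prim.eq_pow_of_pow_eq_one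
    (ξ := y) (orderOf_dvd_iff_pow_eq_one.1 (hj ▸ pow_dvd_pow 2 h2))
  exact ⟨i, hi⟩

/-- **irreducibility** -/
theorem le_finrank {V : Type*} [AddCommGroup V] [Module F V] [Finite V] [Finite F] (c : Module.End F V) {b : ℕ}
    {S : Submodule F V} (hS : ∀ v ∈ S, c v ∈ S) (hc : ∀ v ∈ S, (c ^ 2 ^ b) v = w • v) (h0 : S ≠ ⊥) :
    2 ^ b ≤ finrank F S := by
  have hne : ∀ v ∈ S, v ≠ 0 → c v ≠ 0 := by
    intro v hv h1 h2
    have h3 := hc v hv
    obtain ⟨k, hk⟩ : ∃ k, 2 ^ b = k + 1 := ⟨2 ^ b - 1, by have := Nat.one_le_two_pow (n := b); omega⟩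
    rw [hk, pow_succ, Module.End.mul_apply, h2, map_zero] at h3
    exact smul_ne_zero h.ne_zero h1 h3.symm
  let g : {v : V // v ∈ S ∧ v ≠ 0} → {v : V // v ∈ S ∧ v ≠ 0} := fun v => ⟨c v.1, hS _ v.2.1, hne _ v.2.1 v.2.2⟩
  have hg : Function.Injective g := by
    intro u v huv
    have h1 : c u.1 = c v.1 := congrArg Subtype.val huv
    apply Subtype.ext
    by_contra h2
    exact hne _ (sub_mem u.2.1 v.2.1) (sub_ne_zero.2 h2) (by rw [map_sub, h1, sub_self])
  let f := Equiv.ofBijective g (Finite.injective_iff_bijective.1 hg)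
  have hf : ∀ (k : ℕ) v, ((f ^ k) v).1 = (c ^ k) v.1 := by
    intro k
    induction k with
    | zero => intro v; rfl
    | succ k ih => intro v; rw [pow_succ, pow_succ, Equiv.Perm.mul_apply, ih]; rfl
  have hp : ∀ (k : ℕ), ∀ v ∈ S, (c ^ (2 ^ b * k)) v = w ^ k • v := by
    intro k v hv
    induction k with
    | zero => simp
    | succ k ih => rw [mul_add, mul_one, add_comm, pow_add, Module.End.mul_apply, ih, map_smul, hc v hv, smul_smul, pow_succ]
  have h1 : 2 ^ (b + e + 1) ∣ Nat.card {v : V // v ∈ S ∧ v ≠ 0} := by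
    refine dvd_card_of_free f (Equiv.ext fun v => Subtype.ext ?_) fun v hv => ?_
    · rw [hf, add_assoc, pow_add 2 b, hp _ _ v.2.1, h.pow', one_smul]
      rfl
    · have h2 := congrArg Subtype.val hv
      rw [hf, pow_add 2 b, hp _ _ v.2.1, h.pow] at h2
      have h3 : (2 : F) • v.1 = 0 := by
        rw [two_smul]
        nth_rewrite 1 [← h2]
        rw [neg_smul, one_smul, neg_add_cancel]
      exact smul_ne_zero h.two v.2.2 h3
  have h2 : Nat.card {v : V // v ∈ S ∧ v ≠ 0} = Nat.card F ^ finrank F S - 1 := by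
    rw [← Module.natCard_eq_pow_finrank (K := F) (V := S)]
    have h3 : Nat.card {v : V // v ∈ S ∧ v ≠ 0} = ((S : Set V) \ {0}).ncard := rfl
    rw [h3, Set.ncard_sdiff_singleton_of_mem S.zero_mem]
    rfl
  rw [h2] at h1
  exact Nat.le_of_dvd (Nat.pos_of_ne_zero fun e => h0 (Submodule.finrank_eq_zero.1 e))
    (lte Nat.card_pos h.pos h.dvd h.nd h1)

end Gn

theorem exists_gn [Finite F] (h2 : (2 : F) ≠ 0) {y : F} {k : ℕ} (hy : y ^ 2 ^ k = 1) (hy2 : y ^ 2 ≠ 1) :
    ∃ (e : ℕ) (w : F), Gn e w := by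
  have := Fintype.ofFinite F
  classical
  obtain ⟨g, hg⟩ := IsCyclic.exists_generator (α := Fˣ)
  have ho : orderOf g = Nat.card F - 1 := by
    rw [orderOf_eq_card_of_forall_mem_zpowers hg, Nat.card_units]
  have hpos : Nat.card F - 1 ≠ 0 := ho ▸ (orderOf_pos g).ne'
  obtain ⟨j, m, hm, hj⟩ := Nat.exists_eq_two_pow_mul_odd hpos
  have h0 : y ≠ 0 := by
    rintro rfl
    rw [zero_pow (by positivity)] at hy
    exact zero_ne_one hy
  have h1 : 2 ≤ j := by
    by_contra hc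
    apply hy2
    have h3 : orderOf y ∣ 2 ^ j * m := by
      rw [← hj, Nat.card_eq_fintype_card]
      exact orderOf_dvd_of_pow_eq_one (FiniteField.pow_card_sub_one_eq_one y h0)
    have h4 : (orderOf y).Coprime m :=
      Nat.Coprime.coprime_dvd_left (orderOf_dvd_of_pow_eq_one hy) (Nat.Coprime.pow_left k (Nat.coprime_two_left.2 hm))
    exact orderOf_dvd_iff_pow_eq_one.1 ((h4.dvd_of_dvd_mul_right h3).trans (by
      have : j = 0 ∨ j = 1 := by omega
      rcases this with rfl | rfl <;> norm_num))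
  obtain ⟨e, rfl⟩ : ∃ e, j = e + 1 := ⟨j - 1, by omega⟩
  refine ⟨e, ((g ^ m : Fˣ) : F), by omega, ?_, ?_, h2⟩
  · have h3 : (((g ^ m : Fˣ) : F) ^ 2 ^ e) ^ 2 = 1 := by
      rw [← pow_mul, ← pow_succ, ← Units.val_pow_eq_pow_val, ← pow_mul, mul_comm, ← hj, ← ho, pow_orderOf_eq_one,
        Units.val_one]
    refine (sq_eq_one_iff.1 h3).resolve_left fun h4 => ?_
    rw [← Units.val_pow_eq_pow_val, ← pow_mul, Units.val_eq_one] at h4
    have h5 := orderOf_dvd_of_pow_eq_one h4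
    rw [ho, hj, mul_comm m] at h5
    have h6 := Nat.le_of_dvd (by positivity) (Nat.dvd_of_mul_dvd_mul_right hm.pos h5)
    exact absurd h6 (not_le.2 (Nat.pow_lt_pow_right (by norm_num) (Nat.lt_succ_self e)))
  · rw [hj, pow_succ 2 (e + 1), Nat.mul_dvd_mul_iff_left (by positivity)]
    exact hm.not_two_dvd_nat

end Cfsg.Agent.ODD.FA
end

-- part: ODD/FA/Blk
section
set_option linter.all false
open scoped Cfsg.Agent.FastGrp

/-!
# ODD, box FA: the binary blocks (helper35)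

* `Blk β` : `β` is monotone and the fibre through `i` has `2 ^ β i` elements; `exists_blk`;
* `Blk.eq_of_comp` : a function which is constant on the blocks is the only such function in its orbit;
* `mem_closure_adj`, `mem_closure_swap` : generation by transpositions;
* `exists_sort` : sorting inside the blocks;
* `Blk.exists_ea` : an elementary abelian `2`-group which is transitive on every block.
-/

set_option autoImplicit false

namespace Cfsg.Agent.ODD.FA

open Equiv Finset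

variable {m : ℕ}

/-- the binary blocks -/
structure Blk (β : Fin m → ℕ) : Prop where
  mono : Monotone β
  card : ∀ i, (univ.filter fun j => β j = β i).card = 2 ^ β i

theorem exists_blk (m : ℕ) : ∃ β : Fin m → ℕ, Blk β := by
  have hex : ∀ i : Fin m, ∃ b, (i : ℕ) < m % 2 ^ (b + 1) := fun i =>
    ⟨m, by rw [Nat.mod_eq_of_lt (Nat.lt_two_pow_self.trans (Nat.pow_lt_pow_right (by norm_num) (Nat.lt_succ_self m)))]
           exact i.2⟩
  have hmono : Monotone fun b => m % 2 ^ b := monotone_nat_of_le_succ fun b => by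
    simp only [Nat.mod_pow_succ]
    exact Nat.le_add_right _ _
  have hiff : ∀ (j : Fin m) (b : ℕ), Nat.find (hex j) = b ↔ m % 2 ^ b ≤ j ∧ (j : ℕ) < m % 2 ^ (b + 1) := by
    intro j b
    rw [Nat.find_eq_iff]
    constructor
    · rintro ⟨h1, h2⟩
      refine ⟨?_, h1⟩
      rcases b with _ | b
      · rw [pow_zero, Nat.mod_one]
        exact Nat.zero_le _
      · exact not_lt.1 (h2 b (Nat.lt_succ_self b))
    · rintro ⟨h1, h2⟩
      exact ⟨h2, fun c hc => not_lt.2 ((hmono (show c + 1 ≤ b from hc)).trans h1)⟩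
  refine ⟨fun i => Nat.find (hex i), fun i j hij =>
    Nat.find_min' (hex i) (lt_of_le_of_lt (show (i : ℕ) ≤ j from hij) (Nat.find_spec (hex j))), fun i => ?_⟩
  obtain ⟨h1, h2⟩ := (hiff i _).1 rfl
  generalize Nat.find (hex i) = b at h1 h2 ⊢
  have h3 : m % 2 ^ (b + 1) = m % 2 ^ b + 2 ^ b := by
    rw [Nat.mod_pow_succ] at h2 ⊢
    rcases Nat.mod_two_eq_zero_or_one (m / 2 ^ b) with h | h
    · rw [h] at h2
      omega
    · rw [h, mul_one]
  have h4 : m % 2 ^ (b + 1) ≤ m := Nat.mod_le _ _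
  have h5 : (univ.filter fun j : Fin m => Nat.find (hex j) = b).map Fin.valEmbedding =
      Finset.Ico (m % 2 ^ b) (m % 2 ^ (b + 1)) := by
    ext x
    simp only [mem_map, mem_filter, mem_univ, true_and, hiff, Fin.valEmbedding_apply, Finset.mem_Ico]
    constructor
    · rintro ⟨j, hj, rfl⟩
      exact hj
    · intro hx
      exact ⟨⟨x, by omega⟩, hx, rfl⟩
  have h6 := congrArg Finset.card h5
  rw [card_map, Nat.card_Ico, h3, Nat.add_sub_cancel_left] at h6
  exact h6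

/-- constant on the blocks -/
def Bc {A : Type*} (β : Fin m → ℕ) (f : Fin m → A) : Prop := ∀ i j, β i = β j → f i = f j

namespace Blk

variable {β : Fin m → ℕ} (hβ : Blk β)
include hβ

theorem card_level {A : Type*} [DecidableEq A] {f : Fin m → A} (hf : Bc β f) (a : A) :
    (univ.filter fun i => f i = a).card = ∑ b ∈ (univ.filter fun i => f i = a).image β, 2 ^ b := by
  rw [card_eq_sum_card_image β]
  refine sum_congr rfl fun b hb => ?_
  obtain ⟨i, hi, rfl⟩ := mem_image.1 hb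
  rw [← hβ.card i]
  congr 1
  ext j
  simp only [mem_filter, mem_univ, true_and] at hi ⊢
  exact ⟨fun h => h.2, fun h => ⟨(hf j i h).trans hi, h⟩⟩

theorem eq_of_comp {A : Type*} {f : Fin m → A} (hf : Bc β f) (σ : Perm (Fin m)) (hf' : Bc β fun i => f (σ i))
    (i : Fin m) : f (σ i) = f i := by
  classical
  have h1 : (univ.filter fun j => f (σ j) = f i).card = (univ.filter fun j => f j = f i).card :=
    card_bij (fun j _ => σ j) (fun j hj => by simpa using hj) (fun _ _ _ _ h => σ.injective h)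
      fun j hj => ⟨σ⁻¹ j, by simpa using hj, by simp⟩
  rw [hβ.card_level hf' (f i), hβ.card_level hf (f i)] at h1
  have h2 := geomSum_injective (n := 2) le_rfl h1
  have h3 : β i ∈ (univ.filter fun j => f (σ j) = f i).image β := by
    rw [h2]
    exact mem_image_of_mem β (by simp)
  obtain ⟨j, hj, hj'⟩ := mem_image.1 h3
  exact (hf' i j hj'.symm).trans (mem_filter.1 hj).2

theorem exists_lab : ∃ L : Fin m → ℕ, (∀ i, L i < 2 ^ β i) ∧ (∀ i j, β i = β j → L i = L j → i = j) ∧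
    ∀ i c, c < 2 ^ β i → ∃ j, β j = β i ∧ L j = c := by
  have h : ∀ b : ℕ, ∃ L : Fin m → ℕ, (∀ i, β i = b → L i < (univ.filter fun j => β j = b).card) ∧
      (∀ i j, β i = b → β j = b → L i = L j → i = j) ∧
      ∀ c, c < (univ.filter fun j => β j = b).card → ∃ j, β j = b ∧ L j = c := by
    intro b
    let e := (univ.filter fun j => β j = b).equivFin
    refine ⟨fun i => if h : β i = b then (e ⟨i, by simpa using h⟩ : ℕ) else 0, fun i hi => ?_, fun i j hi hj hij => ?_,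
      fun c hc => ?_⟩
    · simp only [dif_pos hi]
      exact Fin.is_lt _
    · simp only [dif_pos hi, dif_pos hj] at hij
      exact congrArg Subtype.val (e.injective (Fin.ext hij))
    · have h1 : β (e.symm ⟨c, hc⟩).1 = b := (mem_filter.1 (e.symm ⟨c, hc⟩).2).2
      refine ⟨(e.symm ⟨c, hc⟩).1, h1, ?_⟩
      simp only [dif_pos h1, Subtype.coe_eta, apply_symm_apply]
  choose L h1 h2 h3 using h
  refine ⟨fun i => L (β i) i, fun i => ?_, fun i j hij h => ?_, fun i c hc => ?_⟩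
  · rw [← hβ.card i]
    exact h1 _ i rfl
  · exact h2 (β j) i j hij rfl ((congrArg (L · i) hij).symm.trans h)
  · obtain ⟨j, hj, hc'⟩ := h3 (β i) c (by rw [hβ.card]; exact hc)
    exact ⟨j, hj, by simp only [hj, hc']⟩

/-- an elementary abelian `2`-group which is transitive on every block -/
theorem exists_ea : ∃ C : Subgroup (Perm (Fin m)), (∀ x ∈ C, x * x = 1) ∧
    ∀ i j, β i = β j → ∃ x ∈ C, x i = j ∧ ∀ l, β l ≠ β i → x l = l := by
  obtain ⟨L, h1, h2, h3⟩ := hβ.exists_lab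
  have hsq : ∀ x : Perm (Fin m), (∀ i, β (x i) = β i ∧ ∀ j, β j = β i → L (x i) ^^^ L i = L (x j) ^^^ L j) →
      x * x = 1 := by
    intro x hx
    ext i
    have h4 := (hx i).2 (x i) (hx i).1
    have h5 : L (x (x i)) = L i := by
      rw [← Nat.xor_xor_cancel_right (L (x (x i))) (L (x i)), ← h4, Nat.xor_comm (L (x i)), Nat.xor_xor_cancel_right]
    rw [Perm.mul_apply, h2 (x (x i)) i ((hx _).1.trans (hx i).1) h5]
    rfl
  refine ⟨⟨⟨⟨{x | ∀ i, β (x i) = β i ∧ ∀ j, β j = β i → L (x i) ^^^ L i = L (x j) ^^^ L j}, ?_⟩, ?_⟩, ?_⟩, hsq,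
    fun i j hij => ?_⟩
  · intro x y hx hy i
    refine ⟨(hx _).1.trans (hy i).1, fun j hj => ?_⟩
    have e : ∀ l, L ((x * y) l) ^^^ L l = (L (x (y l)) ^^^ L (y l)) ^^^ (L (y l) ^^^ L l) := fun l => by
      rw [Nat.xor_assoc, Nat.xor_xor_cancel_left, Perm.mul_apply]
    rw [e, e, (hy i).2 j hj, (hx (y i)).2 (y j) ((hy j).1.trans (hj.trans (hy i).1.symm))]
  · intro i
    exact ⟨rfl, fun j _ => by simp⟩
  · intro x hx
    rw [inv_eq_of_mul_eq_one_right (hsq x hx)]
    exact hx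
  · have h4 : ∀ l, ∃ l', β l' = β l ∧ (β l = β i → L l' = L l ^^^ (L i ^^^ L j)) ∧ (β l ≠ β i → l' = l) := by
      intro l
      by_cases hl : β l = β i
      · obtain ⟨l', h5, h6⟩ := h3 l (L l ^^^ (L i ^^^ L j))
          (Nat.xor_lt_two_pow (h1 l) (Nat.xor_lt_two_pow (hl ▸ h1 i) ((hl.trans hij) ▸ h1 j)))
        exact ⟨l', h5, fun _ => h6, fun h => absurd hl h⟩
      · exact ⟨l, rfl, fun h => absurd h hl, fun _ => rfl⟩
    choose x h5 h6 h7 using h4
    have hinv : Function.Involutive x := by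
      intro l
      by_cases hl : β l = β i
      · refine h2 _ _ ((h5 _).trans (h5 l)) ?_
        rw [h6 _ ((h5 l).trans hl), h6 l hl, Nat.xor_xor_cancel_right]
      · rw [h7 l hl, h7 l hl]
    refine ⟨hinv.toPerm x, fun l => ⟨h5 l, fun l' hl' => ?_⟩, ?_, h7⟩
    · change L (x l) ^^^ L l = L (x l') ^^^ L l'
      by_cases hl : β l = β i
      · rw [h6 l hl, h6 l' (hl'.trans hl), Nat.xor_comm (L l), Nat.xor_comm (L l'), Nat.xor_xor_cancel_right,
          Nat.xor_xor_cancel_right]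
      · rw [h7 l hl, h7 l' (hl' ▸ hl), Nat.xor_self, Nat.xor_self]
    · refine h2 _ _ ((h5 i).trans hij) ?_
      change L (x i) = L j
      rw [h6 i rfl, Nat.xor_xor_cancel_left]

end Blk

/-- the stabiliser of a function is generated by transpositions -/
theorem mem_closure_swap {A : Type*} {f : Fin m → A} {σ : Perm (Fin m)} (hσ : ∀ i, f (σ i) = f i) :
    σ ∈ Subgroup.closure {x : Perm (Fin m) | ∃ i j, i ≠ j ∧ f i = f j ∧ x = swap i j} := by
  refine (mem_closure_isSwap (by rintro x ⟨i, j, hij, _, h⟩; exact ⟨i, j, hij, h⟩)).2 ⟨Set.toFinite _, fun i => ?_⟩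
  by_cases h : i = σ i
  · rw [← h]
    exact MulAction.mem_orbit_self i
  · exact ⟨⟨swap i (σ i), Subgroup.subset_closure ⟨i, σ i, h, (hσ i).symm, rfl⟩⟩, swap_apply_left _ _⟩

/-- the stabiliser of a monotone function is generated by adjacent transpositions -/
theorem mem_closure_adj {k : ℕ} {β : Fin (k + 1) → ℕ} (hβ : Monotone β) {σ : Perm (Fin (k + 1))}
    (hσ : ∀ i, β (σ i) = β i) :
    σ ∈ Subgroup.closure {x : Perm (Fin (k + 1)) | ∃ i : Fin k, β i.castSucc = β i.succ ∧ x = swap i.castSucc i.succ} := by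
  refine (mem_closure_isSwap (by rintro x ⟨i, _, h⟩; exact ⟨_, _, i.castSucc_lt_succ.ne, h⟩)).2
    ⟨Set.toFinite _, fun i => ?_⟩
  have key : ∀ j i : Fin (k + 1), i ≤ j → β i = β j → j ∈ MulAction.orbit (Subgroup.closure
      {x : Perm (Fin (k + 1)) | ∃ i : Fin k, β i.castSucc = β i.succ ∧ x = swap i.castSucc i.succ}) i := by
    intro j
    induction j using Fin.induction with
    | zero =>
      intro i hi _
      rw [Fin.le_zero_iff.1 hi]
      exact MulAction.mem_orbit_self _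
    | succ j ih =>
      intro i hi h
      rcases hi.eq_or_lt with rfl | hi
      · exact MulAction.mem_orbit_self _
      · have h1 : i ≤ j.castSucc := Fin.le_castSucc_iff.2 hi
        have h2 : β j.castSucc = β j.succ := le_antisymm (hβ j.castSucc_lt_succ.le) (h ▸ hβ h1)
        obtain ⟨g, hg⟩ := ih i h1 (h.trans h2.symm)
        refine ⟨⟨swap j.castSucc j.succ, Subgroup.subset_closure ⟨j, h2, rfl⟩⟩ * g, ?_⟩
        change swap j.castSucc j.succ (g • i) = j.succ
        rw [show g • i = j.castSucc from hg, swap_apply_left]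
  rcases le_total i (σ i) with h | h
  · exact key _ _ h (hσ i).symm
  · exact MulAction.mem_orbit_symm.1 (key _ _ h (hσ i))

/-- sorting inside the blocks -/
theorem exists_sort {A : Type*} {β : Fin m → ℕ} (hβ : Monotone β) {f : Fin m → A} (hf : ¬ Bc β f) :
    ∃ (π : Perm (Fin m)) (γ : Fin m → ℕ), (∀ l, β (π l) = β l) ∧ Monotone γ ∧ (∃ i j, β i = β j ∧ γ i < γ j) ∧
      ∀ σ : Perm (Fin m), (∀ l, β (σ l) = β l) → (∀ l, f (π (σ l)) = f (π l)) → ∀ l, γ (σ l) = γ l := by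
  classical
  simp only [Bc, not_forall] at hf
  obtain ⟨i, j, hij, hne⟩ := hf
  let g : Fin m → ℕ := fun l => 2 * β l + if f l = f i then 0 else 1
  have hg : ∀ l, g l / 2 = β l := fun l => by
    simp only [g]
    split_ifs <;> omega
  have h1 := Tuple.monotone_sort g
  have h2 : Monotone (β ∘ Tuple.sort g) := fun a b hab => by
    simp only [Function.comp_apply, ← hg]
    exact Nat.div_le_div_right (h1 hab)
  have h3 : ∀ l, β (Tuple.sort g l) = β l := fun l =>
    congrFun (Tuple.unique_monotone (τ := 1) h2 hβ) l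
  refine ⟨Tuple.sort g, g ∘ Tuple.sort g, h3, h1, ⟨(Tuple.sort g).symm i, (Tuple.sort g).symm j, ?_, ?_⟩,
    fun σ h4 h5 l => ?_⟩
  · rw [← h3, ← h3 ((Tuple.sort g).symm j), apply_symm_apply, apply_symm_apply, hij]
  · simp only [Function.comp_apply, apply_symm_apply]
    simp only [g, if_true, if_neg (Ne.symm hne), hij]
    omega
  · change 2 * β _ + _ = 2 * β _ + _
    rw [h3, h3, h4, h5]

end Cfsg.Agent.ODD.FA

private theorem dce_dda28d0f8726 : _root_.True := by
  try have : _root_.True := by simp only [_root_.Cfsg.Agent.ODD.FA.Bc.eq_1]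
  exact _root_.True.intro
end

-- part: ODD/FA/Mon
section
prune_inst 0x10700537400000001c0012322010f1a5000022004b8000e024020400408842a0c22e419a00051208b0104158050008110000000000000000003000000601208000000020400104240010800000000000000000000000000000000000000000000000000
set_option linter.all false
open scoped Cfsg.Agent.FastGrp

/-!
# ODD, box FA: monomial matrices and the cyclic elements on the binary blocks (helper35)

* `Mon σ a`, `IsMon σ A` : monomial matrices; `cut β b A` : the diagonal block `b` of `A`, completed by `1`;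
* `Cy β e w c x` : `c b` is monomial, lives on the block `b`, `c b ^ 2 ^ b = x b`, `det (c b) = w`; `exists_cy`;
* `Cy.eigen`, `Cy.eq_one` (a unitriangular matrix which commutes with the elements `c b * c b' ^ r` is `1`),
  `Cy.not_tri` (irreducibility on the blocks), `Cy.exists_det`.
-/

set_option autoImplicit false

namespace Cfsg.Agent.ODD.FA

open Equiv Finset Matrix Module

variable {m : ℕ} {F : Type*} [Field F]

/-! ### monomial matrices -/

/-- the monomial matrix `e_j ↦ a j • e_(σ j)` -/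
def Mon (σ : Perm (Fin m)) (a : Fin m → F) : Matrix (Fin m) (Fin m) F := of fun i j => if i = σ j then a j else 0

/-- monomial with the permutation `σ` -/
def IsMon (σ : Perm (Fin m)) (A : Matrix (Fin m) (Fin m) F) : Prop := ∀ i j, A i j ≠ 0 → i = σ j

theorem isMon_mon (σ : Perm (Fin m)) (a : Fin m → F) : IsMon σ (Mon σ a) := fun i j h => by
  by_contra hc
  exact h (if_neg hc)

theorem IsMon.eq {σ : Perm (Fin m)} {A : Matrix (Fin m) (Fin m) F} (h : IsMon σ A) : A = Mon σ fun j => A (σ j) j := by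
  ext i j
  change _ = if _ then _ else _
  split_ifs with hc
  · rw [hc]
  · by_contra h0
    exact hc (h i j h0)

theorem mon_mul (σ τ : Perm (Fin m)) (a b : Fin m → F) :
    Mon σ a * Mon τ b = Mon (σ * τ) fun j => a (τ j) * b j := by
  ext i j
  rw [mul_apply, sum_eq_single (τ j) (fun k _ hk => by simp [Mon, hk]) (by simp only [_root_.Finset.mem_univ, _root_.not_true_eq_false, _root_.mul_eq_zero, _root_.IsEmpty.forall_iff])]
  by_cases h : i = σ (τ j) <;> simp [Mon, h]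

theorem mon_one (a : Fin m → F) : Mon 1 a = diagonal a := by
  ext i j
  by_cases h : i = j <;> simp only [Mon, h, _root_.Equiv.Perm.coe_one, _root_.id_eq, _root_.Matrix.of_apply, ↓ _root_.reduceIte, _root_.Matrix.diagonal_apply_eq, _root_.ne_eq, _root_.not_false_eq_true, _root_.Matrix.diagonal_apply_ne]

theorem IsMon.mul {σ τ : Perm (Fin m)} {A B : Matrix (Fin m) (Fin m) F} (hA : IsMon σ A) (hB : IsMon τ B) :
    IsMon (σ * τ) (A * B) := by
  rw [hA.eq, hB.eq, mon_mul]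
  exact isMon_mon _ _

theorem isMon_diagonal (a : Fin m → F) : IsMon 1 (diagonal a) := mon_one a ▸ isMon_mon 1 a

theorem det_mon (σ : Perm (Fin m)) (a : Fin m → F) : (Mon σ a).det = ((Perm.sign σ : ℤ) : F) * ∏ j, a j := by
  have h : Mon σ a = (diagonal a).submatrix σ.symm id := by
    ext i j
    simp only [Mon, of_apply, submatrix_apply, id, diagonal_apply, symm_apply_eq]
    split_ifs with h
    · rw [h, symm_apply_apply]
    · rfl
  rw [h, det_permute, det_diagonal, Perm.sign_symm]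

theorem mon_pow (σ : Perm (Fin m)) (a : Fin m → F) (k : ℕ) :
    Mon σ a ^ k = Mon (σ ^ k) fun j => ∏ l ∈ range k, a ((σ ^ l) j) := by
  induction k with
  | zero => simp [mon_one]
  | succ k ih =>
    rw [pow_succ', ih, mon_mul, pow_succ']
    congr 1
    ext j
    rw [prod_range_succ, mul_comm]

theorem IsMon.tri {σ : Perm (Fin m)} {A : Matrix (Fin m) (Fin m) F} (h : IsMon σ A) {γ : Fin m → ℕ}
    (hγ : ∀ l, γ (σ l) = γ l) : A.BlockTriangular γ := fun i j hij => by
  by_contra h0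
  rw [h i j h0, hγ] at hij
  exact lt_irrefl _ hij

theorem IsMon.ne_zero {σ : Perm (Fin m)} {A : Matrix (Fin m) (Fin m) F} (h : IsMon σ A) (hd : A.det ≠ 0)
    (j : Fin m) : A (σ j) j ≠ 0 := by
  rw [h.eq, det_mon] at hd
  exact prod_ne_zero_iff.1 (right_ne_zero_of_mul hd) j (mem_univ j)

/-- conjugation of a diagonal matrix -/
theorem IsMon.diag_mul {σ : Perm (Fin m)} {A : Matrix (Fin m) (Fin m) F} (h : IsMon σ A) (d : Fin m → F) :
    diagonal d * A = A * diagonal fun j => d (σ j) := by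
  rw [h.eq, ← mon_one, ← mon_one, mon_mul, mon_mul, one_mul, mul_one]
  congr 1
  ext j
  exact mul_comm _ _

/-! ### blocks -/

/-- the diagonal block `b`, completed by the identity -/
def cut (β : Fin m → ℕ) (b : ℕ) (A : Matrix (Fin m) (Fin m) F) : Matrix (Fin m) (Fin m) F :=
  of fun i j => if β i = b ∧ β j = b then A i j else (1 : Matrix (Fin m) (Fin m) F) i j

variable {β : Fin m → ℕ}

theorem cut_pos {b : ℕ} (A : Matrix (Fin m) (Fin m) F) {i j : Fin m} (hi : β i = b) (hj : β j = b) :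
    cut β b A i j = A i j := if_pos ⟨hi, hj⟩

theorem cut_neg {b : ℕ} (A : Matrix (Fin m) (Fin m) F) {i j : Fin m} (h : ¬ (β i = b ∧ β j = b)) :
    cut β b A i j = (1 : Matrix (Fin m) (Fin m) F) i j := if_neg h

theorem cut_one (b : ℕ) : cut β b (1 : Matrix (Fin m) (Fin m) F) = 1 := by
  ext i j
  exact ite_self _

theorem cut_diagonal (b : ℕ) (d : Fin m → F) : cut β b (diagonal d) = diagonal fun i => if β i = b then d i else 1 := by
  ext i j
  by_cases h : i = j
  · subst h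
    simp [cut]
  · simp [cut, h]

theorem cut_mul (b : ℕ) {A B : Matrix (Fin m) (Fin m) F} (hA : A.BlockTriangular β) (hB : B.BlockTriangular β) :
    cut β b (A * B) = cut β b A * cut β b B := by
  ext i j
  by_cases hi : β i = b
  · by_cases hj : β j = b
    · rw [cut_pos _ hi hj, mul_apply, mul_apply]
      refine sum_congr rfl fun k _ => ?_
      by_cases hk : β k = b
      · rw [cut_pos _ hi hk, cut_pos _ hk hj]
      · rw [cut_neg A (fun h => hk h.2), one_apply_ne (fun h : i = k => hk (h ▸ hi)), zero_mul]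
        rcases lt_or_gt_of_ne hk with h | h
        · rw [hA (hi ▸ h), zero_mul]
        · rw [hB (hj ▸ h), mul_zero]
    · rw [cut_neg _ fun h => hj h.2, mul_apply, sum_congr rfl fun k _ => by rw [cut_neg B fun h => hj h.2],
        ← mul_apply, mul_one, cut_neg _ fun h => hj h.2]
  · rw [cut_neg _ fun h => hi h.1, mul_apply, sum_congr rfl fun k _ => by rw [cut_neg A fun h => hi h.1],
      ← mul_apply, one_mul, cut_neg _ fun h => hi h.1]

theorem cut_tri {γ : Fin m → ℕ} (b : ℕ) {A : Matrix (Fin m) (Fin m) F} (hA : A.BlockTriangular γ) :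
    (cut β b A).BlockTriangular γ := fun i j hij => by
  by_cases h : β i = b ∧ β j = b
  · rw [cut_pos _ h.1 h.2, hA hij]
  · rw [cut_neg _ h, blockTriangular_one hij]

/-- `A` lives on the block `b` -/
def Sp (β : Fin m → ℕ) (b : ℕ) (A : Matrix (Fin m) (Fin m) F) : Prop :=
  ∀ i j, ¬ (β i = b ∧ β j = b) → A i j = (1 : Matrix (Fin m) (Fin m) F) i j

theorem sp_cut (b : ℕ) (A : Matrix (Fin m) (Fin m) F) : Sp β b (cut β b A) := fun _ _ h => cut_neg A h

namespace Sp

variable {b b' : ℕ} {A B : Matrix (Fin m) (Fin m) F}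

theorem cut_eq (h : Sp β b A) : cut β b A = A := by
  ext i j
  by_cases hc : β i = b ∧ β j = b
  · exact cut_pos _ hc.1 hc.2
  · rw [cut_neg _ hc, h i j hc]

theorem cut_ne (h : Sp β b A) (hb : b' ≠ b) : cut β b' A = 1 := by
  ext i j
  by_cases hc : β i = b' ∧ β j = b'
  · rw [cut_pos _ hc.1 hc.2, h i j fun h' => hb (hc.1.symm.trans h'.1)]
  · exact cut_neg _ hc

theorem tri (h : Sp β b A) : A.BlockTriangular β := fun i j hij => by
  rw [h i j fun h' => by omega, blockTriangular_one hij]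

theorem mul (hA : Sp β b A) (hB : Sp β b B) : Sp β b (A * B) := by
  rw [← hA.cut_eq, ← hB.cut_eq, ← cut_mul b hA.tri hB.tri]
  exact sp_cut _ _

theorem pow (hA : Sp β b A) (k : ℕ) : Sp β b (A ^ k) := by
  induction k with
  | zero => exact fun _ _ _ => by rw [pow_zero]
  | succ k ih => exact pow_succ A k ▸ ih.mul hA

theorem sub_mul (hA : Sp β b A) (hB : Sp β b' B) (hb : b ≠ b') : (A - 1) * (B - 1) = 0 := by
  ext i j
  rw [mul_apply, Matrix.zero_apply]
  refine sum_eq_zero fun k _ => ?_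
  by_cases hk : β k = b
  · rw [Matrix.sub_apply B, hB k j fun h => hb (hk.symm.trans h.1), sub_self, mul_zero]
  · rw [Matrix.sub_apply A, hA i k fun h => hk h.2, sub_self, zero_mul]

theorem comm (hA : Sp β b A) (hB : Sp β b' B) (hb : b ≠ b') : Commute A B := by
  have h1 := hA.sub_mul hB hb
  have h2 := hB.sub_mul hA hb.symm
  change A * B = B * A
  rw [← sub_eq_zero, show A * B - B * A = (A - 1) * (B - 1) - (B - 1) * (A - 1) by noncomm_ring, h1, h2, sub_self]

theorem mulVec_apply (hA : Sp β b A) (v : Fin m → F) {i : Fin m} (hi : β i ≠ b) : (A *ᵥ v) i = v i := by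
  conv_rhs => rw [← one_mulVec v]
  simp only [mulVec, dotProduct]
  exact sum_congr rfl fun k _ => by rw [hA i k fun h => hi h.1]

theorem mulVec_of (hA : Sp β b A) {v : Fin m → F} (hv : ∀ i, β i = b → v i = 0) : A *ᵥ v = v := by
  ext i
  conv_rhs => rw [← one_mulVec v]
  simp only [mulVec, dotProduct]
  refine sum_congr rfl fun k _ => ?_
  by_cases hk : β k = b
  · rw [hv k hk, mul_zero, mul_zero]
  · rw [hA i k fun h => hk h.2]

end Sp

/-- the vectors with support in `s` -/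
def Co (F : Type*) [Field F] (s : Finset (Fin m)) : Submodule F (Fin m → F) where
  carrier := {v | ∀ i, i ∉ s → v i = 0}
  add_mem' hu hv i hi := by rw [Pi.add_apply, hu i hi, hv i hi, add_zero]
  zero_mem' _ _ := rfl
  smul_mem' c v hv i hi := by rw [Pi.smul_apply, hv i hi, smul_zero]

theorem finrank_co (s : Finset (Fin m)) : finrank F (Co F s) ≤ s.card := by
  let f : Co F s →ₗ[F] (s → F) := (LinearMap.funLeft F F Subtype.val).comp (Co F s).subtype
  have hf : Function.Injective f := by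
    rw [injective_iff_map_eq_zero]
    intro v hv
    ext i
    by_cases hi : i ∈ s
    · exact congrFun hv ⟨i, hi⟩
    · exact v.2 i hi
  simpa only [_root_.ge_iff_le, _root_.Module.finrank_fintype_fun_eq_card, _root_.Fintype.card_coe] using LinearMap.finrank_le_finrank_of_injective hf

theorem single_mem_co {s : Finset (Fin m)} {i : Fin m} (hi : i ∈ s) : (Pi.single i 1 : Fin m → F) ∈ Co F s :=
  fun j hj => Pi.single_eq_of_ne (fun h : j = i => hj (h ▸ hi)) _

theorem mulVec_mem_co {s : Finset (Fin m)} {A : Matrix (Fin m) (Fin m) F} (h : ∀ i j, j ∈ s → i ∉ s → A i j = 0)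
    {v : Fin m → F} (hv : v ∈ Co F s) : A *ᵥ v ∈ Co F s := fun i hi => by
  simp only [mulVec, dotProduct]
  refine sum_eq_zero fun k _ => ?_
  by_cases hk : k ∈ s
  · rw [h i k hk hi, zero_mul]
  · rw [hv k hk, mul_zero]

/-- the block `b` -/
def fb (β : Fin m → ℕ) (b : ℕ) : Finset (Fin m) := univ.filter fun j => β j = b

theorem mem_fb {b : ℕ} {i : Fin m} : i ∈ fb β b ↔ β i = b := by simp only [fb, _root_.Finset.mem_filter, _root_.Finset.mem_univ, _root_.true_and]

theorem Sp.mem_co {b b' : ℕ} {A : Matrix (Fin m) (Fin m) F} (hA : Sp β b' A) {v : Fin m → F}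
    (hv : v ∈ Co F (fb β b)) : A *ᵥ v ∈ Co F (fb β b) := by
  refine mulVec_mem_co (fun i j hj hi => ?_) hv
  rw [mem_fb] at hi hj
  rw [hA i j fun h => hi (h.1.trans (h.2.symm.trans hj)), one_apply_ne fun h : i = j => hi (h ▸ hj)]

/-! ### the cyclic elements -/

/-- the cyclic elements of the blocks -/
structure Cy (β : Fin m → ℕ) (e : ℕ) (w : F) (c : ℕ → Matrix (Fin m) (Fin m) F) (x : ℕ → F) : Prop where
  blk : Blk β
  mon : ∀ b, ∃ σ : Perm (Fin m), (∀ i, β (σ i) = β i) ∧ IsMon σ (c b)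
  sp : ∀ b, Sp β b (c b)
  pow : ∀ b, c b ^ 2 ^ b = diagonal fun i => if β i = b then x b else 1
  gn : ∀ b, Gn e (x b)
  det : ∀ i, (c (β i)).det = w

theorem exists_cy (hβ : Blk β) {e : ℕ} {w : F} (hw : Gn e w) :
    ∃ (c : ℕ → Matrix (Fin m) (Fin m) F) (x : ℕ → F), Cy β e w c x := by
  have h : ∀ b : ℕ, ∃ (c : Matrix (Fin m) (Fin m) F) (x : F), (∃ σ : Perm (Fin m), (∀ i, β (σ i) = β i) ∧ IsMon σ c) ∧
      Sp β b c ∧ (c ^ 2 ^ b = diagonal fun i => if β i = b then x else 1) ∧ Gn e x ∧ ∀ i, β i = b → c.det = w := by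
    intro b
    by_cases hb : ∃ i, β i = b
    · obtain ⟨i0, rfl⟩ := hb
      obtain ⟨σ, h1, h2⟩ := (fb β (β i0)).exists_cycleOn
      have h3 : ∀ i, β i ≠ β i0 → σ i = i := fun i hi => Perm.notMem_support.1 fun h => hi (mem_fb.1 (h2 h))
      have h4 : ∀ i, β (σ i) = β i := by
        intro i
        by_cases hi : β i = β i0
        · exact (mem_fb.1 (h1.apply_mem_iff.2 (mem_fb.2 hi))).trans hi.symm
        · rw [h3 i hi]
      have hc : (fb β (β i0)).card = 2 ^ β i0 := hβ.card i0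
      let x : F := ((Perm.sign σ : ℤ) : F) * w
      let a : Fin m → F := fun j => if j = i0 then x else 1
      have ha : ∀ s : Finset (Fin m), i0 ∈ s → ∏ j ∈ s, a j = x := fun s hs => by
        simp only [a, prod_ite_eq', if_pos hs]
      refine ⟨Mon σ a, x, ⟨σ, h4, isMon_mon _ _⟩, fun i j hij => ?_, ?_, ?_, fun _ _ => ?_⟩
      · by_cases hj : β j = β i0
        · have hi : β i ≠ β i0 := fun h => hij ⟨h, hj⟩
          rw [one_apply_ne fun h : i = j => hi (h ▸ hj)]
          exact if_neg fun h => hi (by rw [h, h4, hj])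
        · simp only [Mon, of_apply, h3 j hj, a, if_neg fun h : j = i0 => hj (h ▸ rfl), one_apply]
      · have h5 : σ ^ 2 ^ β i0 = 1 := by
          ext i
          by_cases hi : β i = β i0
          · rw [← hc, h1.pow_card_apply (mem_fb.2 hi)]
            rfl
          · rw [Perm.pow_apply_eq_self_of_apply_eq_self (h3 i hi)]
            rfl
        rw [mon_pow, h5, mon_one]
        congr 1
        ext j
        split_ifs with hj
        · rw [← ha _ (mem_fb.2 rfl), ← hc]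
          refine prod_nbij (fun l => (σ ^ l) j) (fun l _ => h1.1.mapsTo.perm_pow l (mem_fb.2 hj)) ?_ ?_ fun _ _ => rfl
          · intro l hl l' hl' h
            exact Nat.ModEq.eq_of_lt_of_lt ((h1.pow_apply_eq_pow_apply (mem_fb.2 hj)).1 h) (by simpa using hl)
              (by simpa using hl')
          · intro i hi
            obtain ⟨l, hl, hl'⟩ := h1.exists_pow_eq (mem_fb.2 hj) hi
            exact ⟨l, by simpa using hl, hl'⟩
        · refine prod_eq_one fun l _ => ?_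
          rw [Perm.pow_apply_eq_self_of_apply_eq_self (h3 j hj)]
          exact if_neg fun h : j = i0 => hj (h ▸ rfl)
      · rcases Int.units_eq_one_or (Perm.sign σ) with h | h
        · simpa [x, h] using hw
        · simpa [x, h] using hw.neg
      · rw [det_mon, ha _ (mem_univ _)]
        rcases Int.units_eq_one_or (Perm.sign σ) with h | h <;> simp [x, h]
    · push Not at hb
      exact ⟨1, w, ⟨1, fun _ => rfl, diagonal_one (n := Fin m) (α := F) ▸ isMon_diagonal _⟩, fun _ _ _ => rfl,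
        by simp [hb], hw, fun i hi => absurd hi (hb i)⟩
  choose c x h1 h2 h3 h4 h5 using h
  exact ⟨c, x, hβ, h1, h2, h3, h4, fun i => h5 _ i rfl⟩

namespace Cy

variable {e : ℕ} {w : F} {c : ℕ → Matrix (Fin m) (Fin m) F} {x : ℕ → F} (h : Cy β e w c x)
include h

theorem comm (b b' : ℕ) : Commute (c b) (c b') := by
  by_cases hb : b = b'
  · rw [hb]
  · exact (h.sp b).comm (h.sp b') hb

theorem pow' (b j : ℕ) : c b ^ 2 ^ (b + j) = diagonal fun i => if β i = b then x b ^ 2 ^ j else 1 := by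
  rw [pow_add, pow_mul, h.pow, diagonal_pow]
  congr 1
  ext i
  simp

theorem comm_cl {A B : Matrix (Fin m) (Fin m) F} (hA : A ∈ Submonoid.closure (Set.range c))
    (hB : B ∈ Submonoid.closure (Set.range c)) : Commute A B := by
  induction hA, hB using Submonoid.closure_induction₂ with
  | mem _ _ ha hb =>
    obtain ⟨b, rfl⟩ := ha
    obtain ⟨b', rfl⟩ := hb
    exact h.comm b b'
  | one_left => exact Commute.one_left _
  | one_right => exact Commute.one_right _
  | mul_left _ _ _ _ _ _ h1 h2 => exact h1.mul_left h2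
  | mul_right _ _ _ _ _ _ h1 h2 => exact h1.mul_right h2

theorem pow_cl {A : Matrix (Fin m) (Fin m) F} (hA : A ∈ Submonoid.closure (Set.range c)) : ∃ k, A ^ 2 ^ k = 1 := by
  induction hA using Submonoid.closure_induction with
  | mem _ ha =>
    obtain ⟨b, rfl⟩ := ha
    exact ⟨b + (e + 1), by simp [h.pow', (h.gn b).pow']⟩
  | one => exact ⟨0, one_pow _⟩
  | mul A B hA hB h1 h2 =>
    obtain ⟨k, hk⟩ := h1
    obtain ⟨l, hl⟩ := h2
    refine ⟨k + l, ?_⟩
    rw [(h.comm_cl hA hB).mul_pow, pow_add, pow_mul, hk, one_pow, mul_comm (2 ^ k), pow_mul, hl, one_pow, one_mul]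

theorem mon_cl {A : Matrix (Fin m) (Fin m) F} (hA : A ∈ Submonoid.closure (Set.range c)) :
    ∃ σ : Perm (Fin m), (∀ i, β (σ i) = β i) ∧ IsMon σ A := by
  induction hA using Submonoid.closure_induction with
  | mem _ ha =>
    obtain ⟨b, rfl⟩ := ha
    exact h.mon b
  | one => exact ⟨1, fun _ => rfl, diagonal_one (n := Fin m) (α := F) ▸ isMon_diagonal _⟩
  | mul A B _ _ h1 h2 =>
    obtain ⟨σ, h3, h4⟩ := h1
    obtain ⟨τ, h5, h6⟩ := h2
    exact ⟨σ * τ, fun i => (h3 _).trans (h5 i), h4.mul h6⟩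

theorem tri_cl {A : Matrix (Fin m) (Fin m) F} (hA : A ∈ Submonoid.closure (Set.range c)) : A.BlockTriangular β := by
  obtain ⟨σ, h1, h2⟩ := h.mon_cl hA
  exact h2.tri h1

/-- an element with given determinants of the blocks -/
theorem exists_det (a : ℕ → ℕ) : ∃ A ∈ Submonoid.closure (Set.range c),
    (∀ i, (cut β (β i) A).det = w ^ a (β i)) ∧ A.det = ∏ b ∈ univ.image β, w ^ a b := by
  have key : ∀ s : Finset ℕ, s ⊆ univ.image β → ∃ A ∈ Submonoid.closure (Set.range c),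
      (∀ b, (cut β b A).det = if b ∈ s then w ^ a b else 1) ∧ A.det = ∏ b ∈ s, w ^ a b := by
    intro s
    induction s using Finset.induction_on with
    | empty => exact fun _ => ⟨1, one_mem _, fun b => by simp [cut_one], by simp⟩
    | insert b s hb ih =>
      intro hs
      obtain ⟨A, h1, h2, h3⟩ := ih ((subset_insert b s).trans hs)
      obtain ⟨i, -, rfl⟩ := mem_image.1 (hs (mem_insert_self _ s))
      have h4 := (h.sp (β i)).pow (a (β i))
      refine ⟨c (β i) ^ a (β i) * A, mul_mem (pow_mem (Submonoid.subset_closure (Set.mem_range_self _)) _) h1, fun b => ?_, ?_⟩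
      · rw [cut_mul b h4.tri (h.tri_cl h1), det_mul, h2]
        by_cases hb' : b = β i
        · rw [hb', h4.cut_eq, det_pow, h.det, if_neg hb, if_pos (mem_insert_self _ s), mul_one]
        · simp [h4.cut_ne hb', hb']
      · rw [det_mul, det_pow, h.det, h3, prod_insert hb]
  obtain ⟨A, h1, h2, h3⟩ := key _ subset_rfl
  exact ⟨A, h1, fun i => by rw [h2, if_pos (mem_image_of_mem β (mem_univ i))], h3⟩

variable {b b' r : ℕ} (hb : b' ≠ b) (hr : Odd r)
include hb

theorem pow_co {v : Fin m → F} (hv : v ∈ Co F (fb β b)) : ((c b * c b' ^ r) ^ 2 ^ b) *ᵥ v = x b • v := by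
  rw [((h.comm b b').pow_right r).mul_pow, ← mulVec_mulVec,
    (((h.sp b').pow r).pow _).mulVec_of fun i hi => hv i fun h' => hb (hi.symm.trans (mem_fb.1 h')), h.pow]
  ext i
  rw [mulVec_diagonal, Pi.smul_apply, smul_eq_mul]
  split_ifs with hi
  · rfl
  · rw [hv i fun h' => hi (mem_fb.1 h'), mul_zero, mul_zero]

include hr

/-- the eigenvectors -/
theorem eigen {y : F} (hy : Gn e y) {v : Fin m → F} (hv : ((c b * c b' ^ r) ^ 2 ^ b) *ᵥ v = y • v) {i : Fin m}
    (hi : v i ≠ 0) : β i = b ∧ y = x b := by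
  by_cases h1 : β i = b'
  · exfalso
    have h2 : ∀ k : ℕ, (((c b * c b' ^ r) ^ 2 ^ b) ^ k) *ᵥ v = y ^ k • v := by
      intro k
      induction k with
      | zero => simp
      | succ k ih => rw [pow_succ, ← mulVec_mulVec, hv, mulVec_smul, ih, smul_smul, pow_succ']
    have h3 : ∀ j j', b + j = b' + j' → (x b' ^ r) ^ 2 ^ j' = y ^ 2 ^ j := by
      intro j j' hj
      have h4 := congrFun (h2 (2 ^ j)) i
      rw [← pow_mul, ← pow_add, ((h.comm b b').pow_right r).mul_pow, ← pow_mul _ r, mul_comm r, pow_mul _ _ r, h.pow',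
        hj, h.pow', diagonal_pow, diagonal_mul_diagonal, mulVec_diagonal, Pi.pow_apply, if_pos h1,
        if_neg (fun h' => hb (h1.symm.trans h')), one_mul, Pi.smul_apply, smul_eq_mul, ← pow_mul, mul_comm _ r,
        pow_mul] at h4
      exact mul_right_cancel₀ hi h4
    have h5 := (h.gn b').pow_odd hr
    rcases lt_or_gt_of_ne hb with h6 | h6
    · exact hy.ne_sq h5.pow' (show b - b' ≠ 0 by omega) (by simpa using (h3 0 (b - b') (by omega)).symm)
    · exact h5.ne_sq hy.pow' (show b' - b ≠ 0 by omega) (by simpa only [_root_.pow_zero, _root_.pow_one] using h3 (b' - b) 0 (by omega))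
  · have h2 := congrFun hv i
    rw [((h.comm b b').pow_right r).mul_pow, ← mulVec_mulVec, h.pow, mulVec_diagonal,
      (((h.sp b').pow r).pow _).mulVec_apply v h1, Pi.smul_apply, smul_eq_mul] at h2
    have h3 := mul_right_cancel₀ hi h2
    split_ifs at h3 with h4
    · exact ⟨h4, h3.symm⟩
    · exact absurd h3.symm hy.ne_one

/-- a unitriangular matrix which commutes with `c b * c b' ^ r` is trivial on the block `b` -/
theorem fix [Finite F] {u : Matrix (Fin m) (Fin m) F} (hu : ∀ i j, j ≤ i → u i j = (1 : Matrix (Fin m) (Fin m) F) i j)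
    (hc : Commute u (c b * c b' ^ r)) {v : Fin m → F} (hv : v ∈ Co F (fb β b)) : u *ᵥ v = v := by
  rcases (fb β b).eq_empty_or_nonempty with h0 | h0
  · have : v = 0 := funext fun i => hv i (by simp [h0])
    rw [this, mulVec_zero]
  have h1 : ∀ v ∈ Co F (fb β b), u *ᵥ v ∈ Co F (fb β b) := by
    intro v hv i hi
    by_contra h2
    refine hi (mem_fb.2 (h.eigen hb hr (h.gn b) ?_ h2).1)
    rw [mulVec_mulVec, ← (hc.pow_right _).eq, ← mulVec_mulVec, h.pow_co hb hv, mulVec_smul]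
  let S : Submodule F (Fin m → F) := Co F (fb β b) ⊓ LinearMap.eqLocus (toLin' u) LinearMap.id
  have hS : ∀ v, v ∈ S ↔ v ∈ Co F (fb β b) ∧ u *ᵥ v = v := fun v => Iff.rfl
  have h2 : (Pi.single ((fb β b).min' h0) 1 : Fin m → F) ∈ S := by
    refine (hS _).2 ⟨single_mem_co (min'_mem _ _), funext fun i => ?_⟩
    by_cases hi : i ∈ fb β b
    · rw [mulVec_single_one, col_apply, hu _ _ (min'_le _ _ hi), one_apply, Pi.single_apply]
    · rw [h1 _ (single_mem_co (min'_mem _ _)) i hi, single_mem_co (min'_mem _ _) i hi]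
  have h3 : 2 ^ b ≤ finrank F S := by
    refine (h.gn b).le_finrank (toLin' (c b * c b' ^ r)) (fun v hv => (hS _).2 ⟨?_, ?_⟩) (fun v hv => ?_) fun h4 => ?_
    · rw [toLin'_apply, ← mulVec_mulVec]
      exact (h.sp b).mem_co (((h.sp b').pow r).mem_co hv.1)
    · rw [toLin'_apply, mulVec_mulVec, hc.eq, ← mulVec_mulVec, ((hS v).1 hv).2]
    · rw [← toLin'_pow, toLin'_apply, h.pow_co hb hv.1]
    · rw [h4, Submodule.mem_bot] at h2
      simpa using congrFun h2 ((fb β b).min' h0)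
  obtain ⟨i, hi⟩ := h0
  have h4 : (fb β b).card = 2 ^ b := mem_fb.1 hi ▸ h.blk.card i
  have h5 : S = Co F (fb β b) :=
    Submodule.eq_of_le_of_finrank_le inf_le_left ((finrank_co _).trans (h4.le.trans h3))
  exact ((hS v).1 (h5 ▸ hv)).2

omit hr in
/-- irreducibility on the block `b` -/
theorem not_tri [Finite F] {A A' : Matrix (Fin m) (Fin m) F} (hA : A.BlockTriangular β) (hA' : A'.BlockTriangular β)
    (h1 : A * A' = 1) {γ : Fin m → ℕ} {i j : Fin m} (hi : β i = b) (hj : β j = b) (hij : γ i < γ j) :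
    ¬ (A' * (c b * c b' ^ r) * A).BlockTriangular γ := by
  intro hZ
  have h2 := (h.sp b').pow r
  have h3 : cut β b (A' * (c b * c b' ^ r) * A) = cut β b A' * c b * cut β b A := by
    rw [cut_mul b (hA'.mul ((h.sp b).tri.mul h2.tri)) hA, cut_mul b hA' ((h.sp b).tri.mul h2.tri),
      cut_mul b (h.sp b).tri h2.tri, (h.sp b).cut_eq, h2.cut_ne hb.symm, mul_one]
  have h4 : cut β b A * cut β b A' = 1 := by rw [← cut_mul b hA hA', h1, cut_one]
  have h5 : ∀ k : ℕ, (cut β b A' * c b * cut β b A) ^ k = cut β b A' * c b ^ k * cut β b A := by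
    intro k
    induction k with
    | zero => rw [pow_zero, pow_zero, mul_one, mul_eq_one_comm.1 h4]
    | succ k ih =>
      rw [pow_succ, ih, pow_succ]
      simp only [mul_assoc]
      rw [← mul_assoc (cut β b A), h4, one_mul]
  have hs : (fb β b).filter (fun l => γ l ≤ γ i) ⊂ fb β b :=
    ⟨filter_subset _ _, fun h6 => absurd (mem_filter.1 (h6 (mem_fb.2 hj))).2 (not_le.2 hij)⟩
  have h6 : 2 ^ b ≤ finrank F (Co F ((fb β b).filter fun l => γ l ≤ γ i)) := by
    refine (h.gn b).le_finrank (toLin' (cut β b A' * c b * cut β b A)) (fun v hv => ?_) (fun v hv => ?_) fun h7 => ?_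
    · rw [toLin'_apply, ← h3]
      refine mulVec_mem_co (fun k l hl hk => ?_) hv
      rw [mem_filter, mem_fb] at hk hl
      by_cases h7 : β k = b
      · exact cut_tri b hZ (lt_of_le_of_lt hl.2 (not_le.1 fun h8 => hk ⟨h7, h8⟩))
      · rw [cut_neg _ fun h8 => h7 h8.1, one_apply_ne fun h8 : k = l => h7 (h8 ▸ hl.1)]
    · have h7 : cut β b A *ᵥ v ∈ Co F (fb β b) := (sp_cut b A).mem_co fun l hl => hv l fun h8 => hl (hs.1 h8)
      have h8 := h.pow_co (r := 0) hb h7
      rw [pow_zero, mul_one] at h8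
      rw [← toLin'_pow, toLin'_apply, h5, ← mulVec_mulVec, ← mulVec_mulVec, h8, mulVec_smul, mulVec_mulVec,
        mul_eq_one_comm.1 h4, one_mulVec]
    · have h8 := single_mem_co (F := F) (s := (fb β b).filter fun l => γ l ≤ γ i) (mem_filter.2 ⟨mem_fb.2 hi, le_rfl⟩)
      rw [h7, Submodule.mem_bot] at h8
      simpa using congrFun h8 i
  have h7 : (fb β b).card = 2 ^ b := hi ▸ h.blk.card i
  exact absurd (h6.trans (finrank_co _)) (not_le.2 (h7 ▸ card_lt_card hs))

end Cy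

end Cfsg.Agent.ODD.FA

private theorem dce_c558128add59 : _root_.True := by
  try have : _root_.True := by simp only [_root_.Cfsg.Agent.ODD.FA.cut.eq_1]
  try have : _root_.True := by simp only [_root_.Cfsg.Agent.ODD.FA.fb.eq_1]
  try have : _root_.True := by simp only [_root_.Cfsg.Agent.ODD.FA.Mon.eq_1]
  exact _root_.True.intro
end

-- part: ODD/PS/SL2
section
set_option linter.all false
open scoped Cfsg.Agent.FastGrp

/-!
# ODD / GAL: `SL₂(q)`, `q` odd (helper6)

* `ty_odd` : the types of the characters of odd degree;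
* `eq_of_x` : an irreducible character of odd degree is determined by its values on the root group;
* `oddRat_sl2` : `OddRat (SL₂(F))` for every finite field of odd order;
* `map_eq_comp` : the form for GAL (`σ ∘ χ = χ ∘ δ`).
-/

set_option autoImplicit false

open Cfsg

namespace Cfsg.Agent.ODD.PS.S2

open Matrix Cfsg.Agent.H670 Cfsg.Agent.H670.SL2 Cfsg.Agent.H670.RankOne Cfsg.Agent.ODD.Red Cfsg.Agent.Characters

universe v

variable {F : Type v} [Field F] [Fintype F]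

theorem deg_ty [DecidableEq F] {nu : F} (hnu : ¬ IsSquare nu) (χ : IrrCharacter (SpecialLinearGroup (Fin 2) F)) {h : ℕ}
    (hq : Fintype.card F = 2 * h + 1) :
    charDegree (χ : SpecialLinearGroup (Fin 2) F → ℂ) = (ty nu χ).1 + h * ((ty nu χ).2.1 + (ty nu χ).2.2) := by
  have h1 := degree_eq_ty hnu χ hq
  rw [Blocks.Basic.irr_one_eq_charDegree χ.2] at h1
  exact_mod_cast h1

/-- the types of the characters of odd degree -/
theorem ty_odd [DecidableEq F] {nu : F} (hnu : ¬ IsSquare nu) (χ : IrrCharacter (SpecialLinearGroup (Fin 2) F))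
    (hodd : Odd (charDegree (χ : SpecialLinearGroup (Fin 2) F → ℂ))) :
    ty nu χ = (1, 0, 0) ∨ ty nu χ = (1, 1, 0) ∨ ty nu χ = (1, 0, 1) ∨ ty nu χ = (1, 1, 1) ∨ ty nu χ = (0, 1, 0) ∨
      ty nu χ = (0, 0, 1) := by
  obtain ⟨h, hq⟩ : ∃ h, Fintype.card F = 2 * h + 1 :=
    ⟨Fintype.card F / 2, by have := FiniteField.odd_card_of_char_ne_two (char_ne_two hnu); omega⟩
  rw [deg_ty hnu χ hq] at hodd
  have ht := ty_mem hnu χ
  generalize ty nu χ = p at ht hodd
  simp only [tys, Finset.mem_insert, Finset.mem_singleton] at ht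
  rcases ht with rfl | rfl | rfl | rfl | rfl | rfl | rfl | rfl
  · exact absurd hodd (by rw [Nat.odd_iff]; simp only; omega)
  · simp
  · simp
  · simp
  · simp
  · exact absurd hodd (by rw [Nat.odd_iff]; simp only; omega)
  · simp
  · simp

theorem ty_congr (nu : F) {χ χ' : IrrCharacter (SpecialLinearGroup (Fin 2) F)}
    (h : ∀ s, (χ' : SpecialLinearGroup (Fin 2) F → ℂ) (x s) = (χ : SpecialLinearGroup (Fin 2) F → ℂ) (x s)) :
    ty nu χ' = ty nu χ := by
  have h1 : ∀ c, (data F).n χ' c = (data F).n χ c := by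
    intro c
    rw [Data.n_eq_iff, ← Data.cf_eq_n, Data.cf_def, Data.cf_def]
    simp only [data_X, h]
  simp only [ty, h1]

/-- a character of odd degree is determined by its type -/
theorem eq_of_ty [DecidableEq F] {nu : F} (hnu : ¬ IsSquare nu) {χ χ' : IrrCharacter (SpecialLinearGroup (Fin 2) F)}
    (hodd : Odd (charDegree (χ : SpecialLinearGroup (Fin 2) F → ℂ))) (h : ty nu χ' = ty nu χ) : χ' = χ := by
  obtain ⟨k, hq⟩ : ∃ h, Fintype.card F = 2 * h + 1 :=
    ⟨Fintype.card F / 2, by have := FiniteField.odd_card_of_char_ne_two (char_ne_two hnu); omega⟩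
  have := Core.finite_irr (G := SpecialLinearGroup (Fin 2) F)
  have : Fintype (IrrCharacter (SpecialLinearGroup (Fin 2) F)) := Fintype.ofFinite _
  obtain ⟨-, c2, c3, c4, c5, -, c7, c8⟩ := counts hnu hq
  have h1 : N nu (ty nu χ) = 1 := by
    rcases ty_odd hnu χ hodd with e | e | e | e | e | e <;> rw [e] <;> assumption
  rw [N] at h1
  exact Finset.card_le_one.1 h1.le _ (Finset.mem_filter.2 ⟨Finset.mem_univ _, h⟩) _
    (Finset.mem_filter.2 ⟨Finset.mem_univ _, rfl⟩)

/-- **an irreducible character of odd degree is determined by its values on the root group** -/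
theorem eq_of_x (hF : Odd (Fintype.card F)) {χ χ' : SpecialLinearGroup (Fin 2) F → ℂ}
    (hχ : IsIrrCharacter _ χ) (hχ' : IsIrrCharacter _ χ') (hodd : Odd (charDegree χ))
    (h : ∀ s, χ' (x s) = χ (x s)) : χ' = χ := by
  classical
  obtain ⟨nu, hnu⟩ := exists_not_square hF
  exact congrArg Subtype.val (eq_of_ty hnu (χ := ⟨χ, hχ⟩) (χ' := ⟨χ', hχ'⟩) hodd (ty_congr nu h))

omit [Fintype F] in
theorem x_pow (s : F) (k : ℕ) : x s ^ k = x ((k : F) * s) := by
  induction k with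
  | zero => rw [pow_zero, Nat.cast_zero, zero_mul]; exact (data F).X_zero.symm
  | succ k ih =>
    rw [pow_succ, ih, Nat.cast_succ, add_mul, one_mul]
    exact ((data F).X_add _ _).symm

theorem x_pow_card (s : F) : x s ^ Fintype.card F = 1 := by
  rw [x_pow, FiniteField.cast_card_eq_zero, zero_mul]
  exact (data F).X_zero

/-- the form for GAL: `σ` raises the `q`-th roots of unity to the power `k`, `δ` multiplies the root group by `k` -/
theorem map_eq_comp (hF : Odd (Fintype.card F)) {σ : ℂ ≃+* ℂ} {k : ℕ}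
    (hσ : ∀ z : ℂ, z ^ Fintype.card F = 1 → σ z = z ^ k)
    (δ : SpecialLinearGroup (Fin 2) F ≃* SpecialLinearGroup (Fin 2) F) (hδ : ∀ s, δ (x s) = x ((k : F) * s))
    {χ : SpecialLinearGroup (Fin 2) F → ℂ} (hχ : IsIrrCharacter _ χ) (hodd : Odd (charDegree χ))
    (g : SpecialLinearGroup (Fin 2) F) : χ (δ g) = σ (χ g) := by
  have h1 : IsIrrCharacter _ (fun g => σ.symm (χ (δ g))) :=
    GaloisIrr.isIrr_map σ.symm (χ := fun g => χ (δ g)) (Core.isIrr_comp δ.toMonoidHom δ.surjective hχ)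
  have h2 := eq_of_x hF hχ h1 hodd fun s => by
    rw [RingEquiv.symm_apply_eq, hδ, ← x_pow]
    exact (GaloisBasic.map_apply (σ : ℂ →+* ℂ) hσ (Core.isIrr_isCharacter hχ) Fintype.card_ne_zero (x_pow_card s)).symm
  rw [← congrFun h2 g, RingEquiv.apply_symm_apply]

/-- **`SL₂(q)`, `q` odd** -/
theorem oddRat_sl2 (hF : Odd (Fintype.card F)) : OddRat (SpecialLinearGroup (Fin 2) F) := by
  intro χ hχ hodd τ hτ g
  exact (map_eq_comp hF (σ := τ) (k := 1) (fun z hz => by rw [pow_one]; exact hτ _ z hF hz) (MulEquiv.refl _)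
    (fun s => by rw [Nat.cast_one, one_mul]; rfl) hχ hodd g).symm

end Cfsg.Agent.ODD.PS.S2
end

-- part: ODD/Exc/Red
section
set_option linter.all false
open scoped Cfsg.Agent.FastGrp

/-!
# ODD-EXC: reduction of `AllR` to centralizers of involutions (helper87)

* `allR_of_two` : it is enough to see `g ~ g * w` for the `2`-elements `w` of `⟨g²⟩`;
* `allR_of_inv` : ... and only when an involution of a given set of class representatives lies in `⟨g²⟩`;
* `Mod.allR` : a computable model of the centralizer of an involution (one class, exponent dividing `24`).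
-/

set_option autoImplicit false

namespace Cfsg.Agent.ODD.Exc

open Cfsg Cfsg.Agent.ODD.Alt

universe u v

section

variable {G : Type u} [Group G] [Finite G]

theorem allR_of_two (h : ∀ (g : G) (j e : ℕ), (g ^ (2 * j)) ^ 2 ^ e = 1 → IsConj g (g ^ (2 * j + 1))) : AllR G := by
  refine allR_of_conj fun τ hτ k hk h1 g => ?_
  by_cases h5 : Odd (orderOf g)
  · rw [pow_eq_of_two hτ h1 pow_card_eq_one' h5]
  have h6 : Odd k := Nat.coprime_two_right.1
    (hk.coprime_dvd_right ((even_iff_two_dvd.1 (Nat.not_odd_iff_even.1 h5)).trans (orderOf_dvd_natCard g)))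
  obtain ⟨a, m, hm, ho⟩ := Nat.exists_eq_two_pow_mul_odd (orderOf_pos g).ne'
  have h4 : Odd (orderOf (g ^ 2 ^ a)) :=
    hm.of_dvd_nat (orderOf_dvd_of_pow_eq_one (by rw [← pow_mul, ← ho, pow_orderOf_eq_one]))
  have h7 := pow_eq_of_two hτ h1 pow_card_eq_one' h4
  obtain ⟨j, rfl⟩ := h6
  refine h g j a ?_
  rw [pow_succ, mul_eq_right] at h7
  rw [← pow_mul, mul_comm, pow_mul, h7]

omit [Finite G] in
theorem exists_inv {w : G} (h1 : w ≠ 1) : ∀ e : ℕ, w ^ 2 ^ e = 1 → ∃ b : ℕ, w ^ b ≠ 1 ∧ w ^ b * w ^ b = 1 := by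
  intro e
  induction e with
  | zero => intro h; exact absurd (by simpa using h) h1
  | succ e ih =>
    intro h
    by_cases h2 : w ^ 2 ^ e = 1
    · exact ih h2
    · exact ⟨2 ^ e, h2, by rw [← pow_add, ← h, pow_succ, mul_two]⟩

/-- `P` contains a conjugate of every involution which is a square -/
theorem allR_of_inv (P : G → Prop) (hP : ∀ y : G, y * y ≠ 1 → y * y * (y * y) = 1 → ∃ z, P z ∧ IsConj (y * y) z)
    (h : ∀ (g : G) (j e n : ℕ), P (g ^ (2 * n)) → (g ^ (2 * j)) ^ 2 ^ e = 1 → IsConj g (g ^ (2 * j + 1))) :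
    AllR G := by
  refine allR_of_two fun g j e hj => ?_
  by_cases h1 : g ^ (2 * j) = 1
  · rw [pow_succ, h1, one_mul]
  obtain ⟨b, h2, h3⟩ := exists_inv h1 e hj
  have h4 : (g ^ (2 * j)) ^ b = g ^ (j * b) * g ^ (j * b) := by
    rw [← pow_mul, ← pow_add]
    congr 1
    ring
  rw [h4] at h2 h3
  obtain ⟨z, hz, hc⟩ := hP _ h2 h3
  obtain ⟨c, hc⟩ := isConj_iff.1 hc
  have h5 := h (c * g * c⁻¹) j e (j * b) (by rw [conj_pow, two_mul, pow_add, hc]; exact hz)
    (by rw [conj_pow, conj_pow, hj]; group)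
  rw [conj_pow] at h5
  exact ((isConj_iff.2 ⟨c, rfl⟩ : IsConj g (c * g * c⁻¹)).trans h5).trans
    (isConj_iff.2 ⟨c, rfl⟩ : IsConj (g ^ (2 * j + 1)) (c * g ^ (2 * j + 1) * c⁻¹)).symm

end

/-! ### computable models -/

/-- the list `x, x a, x a², ..` -/
def pl {T : Type v} (mul : T → T → T) (a : T) : ℕ → T → List T
  | 0, _ => []
  | n + 1, x => x :: pl mul a n (mul x a)

/-- the test of one element -/
def tst {T : Type v} (mul : T → T → T) (beq : T → T → Bool) (one z : T) (C : List T) (t : T) : Bool :=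
  match pl mul (mul t t) 13 one with
  | L => beq (L.getD 12 z) one &&
    (!(L.any fun w => beq w z) ||
      L.all fun w => !(beq (mul (mul w w) (mul w w)) one) || beq w one || C.any fun c => beq (mul c t) (mul (mul w t) c))

/-- a model of the centralizer of `z` -/
structure Mod {G : Type u} [Group G] {T : Type v} (mul : T → T → T) (beq : T → T → Bool) (one z : T) (ev : T → G) :
    Prop where
  mul : ∀ a b, ev (mul a b) = ev a * ev b
  one : ev one = 1
  beq : ∀ a b, beq a b = true ↔ ev a = ev b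
  surj : ∀ g, g * ev z = ev z * g → ∃ t, ev t = g

section

variable {G : Type u} [Group G] {T : Type v} {mul : T → T → T} {beq : T → T → Bool} {one z : T} {ev : T → G}

theorem Mod.mem_pl (M : Mod mul beq one z ev) (a : T) : ∀ (n : ℕ) (x : T) (i : ℕ), i < n →
    ∃ w ∈ pl mul a n x, ev w = ev x * ev a ^ i := by
  intro n
  induction n with
  | zero => intro x i hi; omega
  | succ n ih =>
    intro x i hi
    cases i with
    | zero => exact ⟨x, List.mem_cons_self, by simp⟩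
    | succ i =>
      obtain ⟨w, hw, h⟩ := ih (mul x a) i (by omega)
      exact ⟨w, List.mem_cons_of_mem _ hw, by rw [h, M.mul, pow_succ', mul_assoc]⟩

theorem Mod.getD_pl (M : Mod mul beq one z ev) (a d : T) : ∀ (n : ℕ) (x : T) (i : ℕ), i < n →
    ev ((pl mul a n x).getD i d) = ev x * ev a ^ i := by
  intro n
  induction n with
  | zero => intro x i hi; omega
  | succ n ih =>
    intro x i hi
    cases i with
    | zero => simp [pl]
    | succ i => rw [pl, List.getD_cons_succ, ih _ i (by omega), M.mul, pow_succ', mul_assoc]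

theorem Mod.conj (M : Mod mul beq one z ev) {C : List T} (h : ∀ t, tst mul beq one z C t = true) (g : G) (j e n : ℕ)
    (hn : g ^ (2 * n) = ev z) (hj : (g ^ (2 * j)) ^ 2 ^ e = 1) : IsConj g (g ^ (2 * j + 1)) := by
  obtain ⟨t, rfl⟩ := M.surj g (by rw [← hn]; exact ((Commute.refl g).pow_right _).eq)
  have h1 := h t
  simp only [tst, Bool.and_eq_true, Bool.or_eq_true, Bool.not_eq_true', List.all_eq_true, List.any_eq_true] at h1
  obtain ⟨h1, h2⟩ := h1
  rw [M.beq, M.getD_pl _ _ _ _ _ (by norm_num), M.one, one_mul, M.mul, ← pow_two] at h1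
  have key : ∀ i : ℕ, ∃ w ∈ pl mul (mul t t) 13 one, ev w = ev t ^ (2 * i) := fun i => by
    obtain ⟨w, hw, h3⟩ := M.mem_pl (mul t t) 13 one (i % 12) (by omega)
    refine ⟨w, hw, ?_⟩
    rw [h3, M.one, one_mul, M.mul, ← pow_two, pow_mul]
    conv_rhs => rw [← Nat.div_add_mod i 12, pow_add, pow_mul, h1, one_pow, one_mul]
  rcases h2 with h2 | h2
  · obtain ⟨w, hw, h3⟩ := key n
    have h4 : ((pl mul (mul t t) 13 one).any fun w => beq w z) = true :=
      List.any_eq_true.2 ⟨w, hw, (M.beq _ _).2 (h3.trans hn)⟩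
    rw [h2] at h4
    exact absurd h4 (by simp)
  obtain ⟨w, hw, h3⟩ := key j
  have h4 : ev w ^ 4 = 1 := by
    have h5 : orderOf (ev w) ∣ 2 ^ e := orderOf_dvd_of_pow_eq_one (by rw [h3, hj])
    have h6 : orderOf (ev w) ∣ 4 * 3 :=
      orderOf_dvd_of_pow_eq_one (by
        rw [h3, pow_mul _ 2 j, ← pow_mul _ j, mul_comm j, pow_mul, h1, one_pow])
    exact orderOf_dvd_iff_pow_eq_one.1
      ((Nat.Coprime.coprime_dvd_left h5 (Nat.Coprime.pow_left e (by decide))).dvd_of_dvd_mul_right h6)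
  rcases h2 w hw with (h5 | h5) | ⟨c, -, h5⟩
  · have h6 : beq (mul (mul w w) (mul w w)) one = true := by
      rw [M.beq, M.mul, M.mul, M.one, ← h4, ← pow_two, ← pow_two, ← pow_mul]
    rw [h5] at h6
    exact absurd h6 (by simp)
  · rw [M.beq, M.one, h3] at h5
    rw [pow_succ, h5, one_mul]
  · rw [M.beq, M.mul, M.mul, M.mul, h3, ← pow_succ] at h5
    exact isConj_iff.2 ⟨ev c, by rw [h5, mul_inv_cancel_right]⟩

theorem Mod.allR [Finite G] (M : Mod mul beq one z ev) {C : List T} (h : ∀ t, tst mul beq one z C t = true)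
    (hz : ∀ t : G, t ≠ 1 → t * t = 1 → IsConj t (ev z)) : AllR G :=
  allR_of_inv (fun x => x = ev z) (fun _ h1 h2 => ⟨_, rfl, hz _ h1 h2⟩) (M.conj h)

end

/-! ### a model on numbers: `q + 32 h`, `q` in `2₊^(1+4)` -/

theorem tst_map {T : Type u} {T' : Type v} {mul : T → T → T} {beq : T → T → Bool} {mul' : T' → T' → T'} {beq' : T' → T' → Bool}
    (f : T → T') (hm : ∀ a b, f (mul a b) = mul' (f a) (f b)) (hb : ∀ a b, beq a b = beq' (f a) (f b)) (one z : T)
    (C : List T) (t : T) : tst mul beq one z C t = tst mul' beq' (f one) (f z) (C.map f) (f t) := by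
  have h : ∀ a n x, pl mul' (f a) n (f x) = (pl mul a n x).map f := fun a n => by
    induction n with
    | zero => exact fun _ => rfl
    | succ n ih => exact fun x => congrArg (f x :: ·) ((congrArg _ (hm x a)).symm.trans (ih _))
  simp only [tst, ← hm, h, List.getD_map, List.any_map, List.all_map, hb, Function.comp_def]

/-- entry of a table of width five -/
def lk5 (A i : ℕ) : ℕ := Nat.land (Nat.shiftRight A (Nat.mul 5 i)) 31

/-- entry of a table of width eleven -/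
def lkb (A i : ℕ) : ℕ := Nat.land (Nat.shiftRight A (Nat.mul 11 i)) 2047

/-- the products in `2₊^(1+4)` -/
def tabQ : ℕ := nat_lit 0x653216d7c654be75cf84443a54c74275b637df88072a90f64e36a6f3ee0c2622d2e6ca17aeb1fe14c1135c95d2f09f3f8d90e01b1e8556d1977d9d9ca30bdab45a9287b9ac18820398a4deb38ffbbca54c700653637dfc654b216d784443e75cf4275b2d2e688072eb1fe4e36aa90f60c2626f3eeca17ab1e8514c1177d9dd2f0935c9590e01f3f8d56d19398a49ca30ffbbc5a928bdab4188207b9acdeb384275be75cf00653a54c7c654b637df84443216d7ca17a6f3ee880722d2e64e36aeb1fe0c262a90f656d19f3f8d14c11b1e85d2f0977d9d90e0135c95deb387b9ac9ca30398a45a928ffbbc18820bdab4e75cfc654ba54c784443637df4275b216d7006536f3ee4e36a2d2e60c262eb1feca17aa90f688072f3f8dd2f09b1e8590e0177d9d56d1935c9514c117b9ac5a928398a418820ffbbcdeb38bdab49ca3084443a54c74275b637df00653216d7c654be75cf0c2622d2e6ca17aeb1fe88072a90f64e36a6f3ee90e01b1e8556d1977d9d14c1135c95d2f09f3f8d18820398a4deb38ffbbc9ca30bdab45a9287b9ac216d784443e75cf4275ba54c700653637dfc654ba90f60c2626f3eeca17a2d2e688072eb1fe4e36a35c9590e01f3f8d56d19b1e8514c1177d9dd2f09bdab4188207b9acdeb38398a49ca30ffbbc5a928c654b637df84443216d74275be75cf00653a54c74e36aeb1fe0c262a90f6ca17a6f3ee880722d2e6d2f0977d9d90e0135c9556d19f3f8d14c11b1e855a928ffbbc18820bdab4deb387b9ac9ca30398a4637df4275b216d700653e75cfc654ba54c784443eb1feca17aa90f6880726f3ee4e36a2d2e60c26277d9d56d1935c9514c11f3f8dd2f09b1e8590e01ffbbcdeb38bdab49ca307b9ac5a928398a418820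

/-- the product of codes -/
def mulN (B C H x y : ℕ) : ℕ :=
  Nat.xor (lk5 tabQ (Nat.add (Nat.mul 32 (Nat.mod x 32)) (lk5 B (Nat.add (Nat.mul 32 (Nat.div x 32)) (Nat.mod y 32)))))
    (lkb C (Nat.add (Nat.mul H (Nat.div x 32)) (Nat.div y 32)))

theorem mulN_eq (B C H : ℕ) {q q' : ℕ} (h h' : ℕ) (hq : q < 32) (hq' : q' < 32) :
    mulN B C H (q + 32 * h) (q' + 32 * h') = lk5 tabQ (32 * q + lk5 B (32 * h + q')) ^^^ lkb C (H * h + h') := by
  have h1 : ∀ {q : ℕ} (h : ℕ), q < 32 → Nat.mod (q + 32 * h) 32 = q ∧ Nat.div (q + 32 * h) 32 = h := fun {q} h hq => by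
    show (q + 32 * h) % 32 = q ∧ (q + 32 * h) / 32 = h
    omega
  rw [mulN, (h1 h hq).1, (h1 h hq).2, (h1 h' hq').1, (h1 h' hq').2]
  rfl

theorem xor_code {q : ℕ} (h : ℕ) (hq : q < 32) : q ^^^ 32 * h = q + 32 * h := by
  have h1 : (q ^^^ 32 * h) / 2 ^ 5 = h := by
    rw [Nat.xor_div_two_pow, Nat.div_eq_of_lt hq, Nat.zero_xor]
    exact Nat.mul_div_cancel_left h (by decide)
  have h2 : (q ^^^ 32 * h) % 2 ^ 5 = q := by
    rw [Nat.xor_mod_two_pow, Nat.mod_eq_of_lt hq]
    exact (congrArg (q ^^^ ·) (Nat.mul_mod_right 32 h)).trans (Nat.xor_zero q)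
  omega

end Cfsg.Agent.ODD.Exc

private theorem dce_c1169f9aa46f : _root_.True := by
  try have : _root_.True := by simp only [_root_.Cfsg.Agent.ODD.Exc.tst.eq_1]
  try have : _root_.True := by simp only [_root_.Cfsg.Agent.ODD.Exc.pl.eq_2]
  try have : _root_.True := by simp only [_root_.Cfsg.Agent.ODD.Exc.pl.eq_def]
  try have : _root_.True := by simp only [_root_.Cfsg.Agent.ODD.Exc.pl.eq_1]
  exact _root_.True.intro
end

-- part: ODD/Lev/Gen
section
set_option linter.all false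
open scoped Cfsg.Agent.FastGrp

/-!
# ODD, box LEV: weight vectors (helper97)

`Wt ρ ν v`: `v` is fixed by `U` and has the weight `ν`.  `N` is a proper `P_J`-invariant subspace.

* `exists_wt`: if `V_J` acts trivially on `V / N` there is a weight vector outside `N`, of a conjugate weight;
* `move`: the weight can be moved by `W_J`.
-/

set_option autoImplicit false
set_option linter.unusedSectionVars false

namespace Cfsg.Agent.ODD.Lev

open Cfsg Module CoxeterSystem Cfsg.Agent.ChevalleyStructure.CoxeterGeom Cfsg.Agent.Tits.Roots Cfsg.Agent.Tits.Core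
  Cfsg.Agent.Tits.Exchange Cfsg.Agent.Nodes.Reps Cfsg.Agent.Nodes.BNOf Cfsg.Agent.Nodes.StabComb
  Cfsg.Agent.Nodes.Bruhat Cfsg.Agent.Nodes.LeviDec Cfsg.Agent.H381.OQ Cfsg.Agent.H684.OQ Cfsg.Agent.H53.HC

variable {I W Y : Type} [Fintype I] [DecidableEq I] [Group W] [Finite W] [Group Y] [Finite Y]
  {M : CoxeterMatrix I} {cs : CoxeterSystem M W} {A : I → I → ℤ} {h : IsCartan M A} {p : ℕ} {T : Subgroup Y}
  {n : I → Y} {X : (I → ℤ) → Subgroup Y} {V : Type} [AddCommGroup V] [Module ℂ V] {ρ : Representation ℂ Y V}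

/-- weight vectors -/
def Wt (cs : CoxeterSystem M W) (h : IsCartan M A) (X : (I → ℤ) → Subgroup Y) (ρ : Representation ℂ Y V)
    (ν : ↥T →* ℂˣ) (v : V) : Prop :=
  (∀ u ∈ UU cs h X, ρ u v = v) ∧ ∀ t (ht : t ∈ T), ρ t v = ((ν ⟨t, ht⟩ : ℂˣ) : ℂ) • v

theorem rho_mul (a b : Y) (v : V) : ρ a (ρ b v) = ρ (a * b) v := by rw [map_mul, End.mul_apply]

theorem eU_fix {v : V} (hv : ∀ u ∈ UU cs h X, ρ u v = v) : ρ.asAlgebraHom (eU cs h X) v = v :=
  av_eq _ fun u => by rw [hv u u.2, MonoidHom.one_apply, Units.val_one, one_smul]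

theorem fix_eU {u : Y} (hu : u ∈ UU cs h X) (v : V) :
    ρ u (ρ.asAlgebraHom (eU cs h X) v) = ρ.asAlgebraHom (eU cs h X) v := by
  have := apply_av (σ := ρ) (1 : UU cs h X →* ℂˣ) ⟨u, hu⟩ v
  rwa [MonoidHom.one_apply, Units.val_one, one_smul] at this

theorem ta_apply (g : Y) (v : V) : ρ.asAlgebraHom (ta cs h X g) v =
    ρ.asAlgebraHom (eU cs h X) (ρ g (ρ.asAlgebraHom (eU cs h X) v)) := by
  unfold ta
  rw [map_mul, map_mul, alg_dl, End.mul_apply, End.mul_apply]

theorem conj_mem_T {hN : NSys M T n} {w : W} {k t : Y} (hk : Rp cs hN w k) (ht : t ∈ T) : k⁻¹ * t * k ∈ T := by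
  have := (Subgroup.mem_normalizer_iff.1 (inv_mem hk.mem_normalizer) t).1 ht
  rwa [inv_inv] at this

theorem cj_cjl {hN : NSys M T n} {w : W} {k : Y} (hk : Rp cs hN w k) (ν : ↥T →* ℂˣ) :
    Cj T (cjl hk.mem_normalizer ν) ν k := fun _ _ _ => rfl

variable (R : RGD cs h p T n X)

include R

theorem Wt.infl {ν : ↥T →* ℂˣ} {v : V} (hv : Wt cs h X ρ ν v) (b : RGD.B cs h T X) :
    ρ b v = ((infl R ν b : ℂˣ) : ℂ) • v := by
  obtain ⟨t, ht, u, hu, e⟩ := R.mem_B.1 b.2
  have e1 : b = ⟨t, RGD.T_le_B ht⟩ * ⟨u, RGD.U_le_B hu⟩ := Subtype.ext e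
  rw [e, ← rho_mul, hv.1 u hu, hv.2 t ht, e1, map_mul, infl_T R ν ht, infl_U R ν hu, mul_one]

theorem wt_of_infl {ν : ↥T →* ℂˣ} {v : V} (hv : ∀ b : RGD.B cs h T X, ρ b v = ((infl R ν b : ℂˣ) : ℂ) • v) :
    Wt cs h X ρ ν v := by
  refine ⟨fun u hu => ?_, fun t ht => ?_⟩
  · have h1 := hv ⟨u, RGD.U_le_B hu⟩
    rwa [infl_U R ν hu, Units.val_one, one_smul] at h1
  · have h1 := hv ⟨t, RGD.T_le_B ht⟩
    rwa [infl_T R ν ht] at h1

/-- the weight of `e_U k v` -/
theorem Wt.rp {ν ν' : ↥T →* ℂˣ} {v : V} (hv : Wt cs h X ρ ν v) {w : W} {k : Y} (hk : Rp cs R.nsys w k)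
    (hc : Cj T ν' ν k) : Wt cs h X ρ ν' (ρ.asAlgebraHom (eU cs h X) (ρ k v)) := by
  refine ⟨fun u hu => fix_eU hu _, fun t ht => ?_⟩
  have e1 : t * k = k * (k⁻¹ * t * k) := by group
  rw [← alg_dl ρ t, ← End.mul_apply, ← map_mul, dl_t_comm_eU R ht, map_mul, End.mul_apply, alg_dl, rho_mul, e1,
    ← rho_mul, hv.2 _ (conj_mem_T hk ht), map_smul, map_smul, hc t ht (conj_mem_T hk ht)]

/-- representatives which are minimal on the left -/
theorem exists_left_min (hG : GG cs h T X = ⊤) (J : Set I) (x : Y) :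
    ∃ a ∈ PJ cs h T X J, ∃ b ∈ RGD.B cs h T X, ∃ w k, Rp cs R.nsys w k ∧ x = a * k * b ∧
      ∀ i ∈ J, 0 ≤ rep cs h w⁻¹ (sr i) := by
  classical
  have hex : ∃ m : ℕ, ∃ w, cs.length w = m ∧ ∃ a ∈ PJ cs h T X J, ∃ b ∈ RGD.B cs h T X, ∃ g,
      Rp cs R.nsys w g ∧ x = a * g * b := by
    obtain ⟨w, b₁, hb₁, k, hk, b₂, hb₂, e⟩ := (mem_GG R).1 (show x ∈ GG cs h T X by rw [hG]; exact Subgroup.mem_top x)
    exact ⟨_, w, rfl, b₁, B_le_PJ hb₁, b₂, hb₂, k, hk, e⟩
  obtain ⟨w, hw, a, ha, b, hb, g, hg, e⟩ := Nat.find_spec hex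
  refine ⟨a, ha, b, hb, w, g, hg, e, fun i hi => nonneg_of_lt cs h w⁻¹ i ?_⟩
  rw [cs.length_inv, ← cs.length_inv (w⁻¹ * cs.simple i), mul_inv_rev, inv_inv, cs.inv_simple]
  have h1 : cs.length w ≤ cs.length (cs.simple i * w) := by
    rw [hw]
    by_contra hcon
    exact Nat.find_min hex (not_le.1 hcon) ⟨_, rfl, a * (n i)⁻¹, mul_mem ha (inv_mem (LJ_le_PJ (n_mem_LJ R hi))), b, hb,
      n i * g, (rp_simple cs R.nsys i).mul hg, by rw [e]; group⟩
  have h2 := cs.length_simple_mul w i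
  omega

/-- **Weight vectors outside an invariant subspace.** -/
theorem exists_wt (hG : GG cs h T X = ⊤) (hρ : ρ.IsIrreducible) {lam : ↥T →* ℂˣ} {v₀ : V} (h0 : v₀ ≠ 0)
    (hv : Wt cs h X ρ lam v₀) {J : Set I} {N : Submodule ℂ V} (hN : N ≠ ⊤)
    (hP : ∀ a ∈ PJ cs h T X J, ∀ y ∈ N, ρ a y ∈ N) (hQ : ∀ q ∈ VJ cs h X J, ∀ y, ρ q y - y ∈ N) :
    ∃ k ∈ NN cs R.nsys, ∃ (ν : ↥T →* ℂˣ) (v : V), Cj T ν lam k ∧ Wt cs h X ρ ν v ∧ v ∉ N := by
  obtain ⟨x, hx⟩ : ∃ x, ρ x v₀ ∉ N := by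
    by_contra hcon
    push Not at hcon
    exact hN (eq_top_of_orbit hρ h0 hcon)
  obtain ⟨a, ha, b, hb, w, k, hk, rfl, hw⟩ := exists_left_min R hG J x
  have h1 : ρ k v₀ ∉ N := fun h1 => hx (by
    rw [← rho_mul, ← rho_mul, hv.infl R ⟨b, hb⟩, map_smul, map_smul]
    exact N.smul_mem _ (hP a ha _ h1))
  refine ⟨k, ⟨w, hk⟩, _, _, cj_cjl hk lam, hv.rp R hk (cj_cjl hk lam), fun h2 => h1 ?_⟩
  have h3 : ∀ u ∈ UU cs h X, ρ u (ρ k v₀) - ρ k v₀ ∈ N := by
    intro u hu
    obtain ⟨c, hc, q, hq, rfl⟩ := (mem_U_iff R (J := J)).1 hu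
    have hc' : k⁻¹ * c * k ∈ UU cs h X := conj_mem_Sup' R hk (S := PosJ cs h J) (S' := RGD.Pos cs h) (fun x hx => hx.1)
      (fun x hx => ⟨hx.1.act _, rep_nonneg_of_supp hw hx.2.1 hx.2.2⟩) hc
    have hq' : c * q * c⁻¹ ∈ VJ cs h X J :=
      (Subgroup.mem_normalizer_iff.1 (LJ_le_normalizer_VJ R J (BJ_le_LJ (UJ_le_BJ hc))) q).1 hq
    have e1 : c * q * k = c * q * c⁻¹ * (k * (k⁻¹ * c * k)) := by group
    rw [rho_mul, e1, ← rho_mul, ← rho_mul k, hv.1 _ hc']
    exact hQ _ hq' _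
  have := Fintype.ofFinite (UU cs h X)
  have h4 : ρ.asAlgebraHom (eU cs h X) (ρ k v₀) - ρ k v₀ =
      (Nat.card (UU cs h X) : ℂ)⁻¹ • ∑ u : UU cs h X, (ρ u (ρ k v₀) - ρ k v₀) := by
    unfold eU
    rw [av_apply, Finset.sum_sub_distrib, smul_sub, Finset.sum_const, Finset.card_univ, ← Nat.card_eq_fintype_card,
      ← Nat.cast_smul_eq_nsmul ℂ, smul_smul, inv_mul_cancel₀ (card_ne _), one_smul]
    simp only [MonoidHom.one_apply, inv_one, Units.val_one, one_smul]
  have h5 : ρ.asAlgebraHom (eU cs h X) (ρ k v₀) - ρ k v₀ ∈ N := by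
    rw [h4]
    exact N.smul_mem _ (N.sum_mem fun u _ => h3 u u.2)
  have h6 := N.sub_mem h2 h5
  rwa [sub_sub_cancel] at h6

/-- one step -/
theorem move_simple {J : Set I} {N : Submodule ℂ V} (hP : ∀ a ∈ PJ cs h T X J, ∀ y ∈ N, ρ a y ∈ N) {i : I} (hi : i ∈ J)
    {ν : ↥T →* ℂˣ} {v : V} (hv : Wt cs h X ρ ν v) (h0 : v ∉ N) : ρ.asAlgebraHom (eU cs h X) (ρ (n i) v) ∉ N := by
  classical
  intro h1
  have := Fintype.ofFinite (X (sr i))
  have hU : ∀ y ∈ N, ρ.asAlgebraHom (eU cs h X) y ∈ N := fun y hy =>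
    av_mem _ fun u hu => hP u (B_le_PJ (RGD.U_le_B hu)) y hy
  have hta : ∀ g ∈ PJ cs h T X J, ∀ y ∈ N, ρ.asAlgebraHom (ta cs h X g) y ∈ N := fun g hg y hy => by
    rw [ta_apply]
    exact hU _ (hP g hg _ (hU y hy))
  have h2 : ρ.asAlgebraHom (ta cs h X (n i)) v ∈ N := by rwa [ta_apply, eU_fix hv.1]
  have hz : n i * n i ∈ T := R.sq_mem_T i
  have h3 : ρ.asAlgebraHom (ta cs h X (n i * n i)) v = ((ν ⟨_, hz⟩ : ℂˣ) : ℂ) • v := by
    rw [ta_apply, eU_fix hv.1, hv.2 _ hz, map_smul, eU_fix hv.1]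
  have h4 := hta _ (LJ_le_PJ (n_mem_LJ R hi)) _ h2
  rw [← End.mul_apply, ← map_mul, ta_sq R i, map_smul, LinearMap.smul_apply,
    N.smul_mem_iff (inv_ne_zero (card_ne _)), map_sum, LinearMap.sum_apply,
    ← Finset.add_sum_erase _ _ (Finset.mem_univ 1), if_pos rfl, h3, N.add_mem_iff_left, N.smul_mem_iff (Units.ne_zero _)]
    at h4
  · exact h0 h4
  · refine N.sum_mem fun x hx => ?_
    rw [if_neg (Finset.mem_erase.1 hx).1, map_mul, map_mul, End.mul_apply, End.mul_apply, h3, map_smul, map_smul]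
    exact N.smul_mem _ (hta _ (LJ_le_PJ (T_le_LJ (tx_mem R i x))) _ h2)

/-- **Moving the weight by `W_J`.** -/
theorem move {J : Set I} {N : Submodule ℂ V} (hP : ∀ a ∈ PJ cs h T X J, ∀ y ∈ N, ρ a y ∈ N)
    {ν : ↥T →* ℂˣ} {v : V} (hv : Wt cs h X ρ ν v) (h0 : v ∉ N) {a : Y} (ha : a ∈ NN cs R.nsys)
    (haP : a ∈ PJ cs h T X J) {ν' : ↥T →* ℂˣ} (hc : Cj T ν' ν a) : ∃ v', Wt cs h X ρ ν' v' ∧ v' ∉ N := by
  obtain ⟨w, hw⟩ := ha
  obtain ⟨ω, hω, rfl⟩ := exists_word_of_mem_WJ cs ((cell_mem_PJ_iff R (cell_of_rp hw)).1 haP)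
  clear haP
  induction ω generalizing a ν' with
  | nil =>
    rw [wordProd_nil] at hw
    have ha := hw.mem_of_one
    have h1 : ν' = ν := by
      ext t
      rw [hc t t.2 (conj_mem_T hw t.2)]
      have e1 : (⟨a⁻¹ * t * a, conj_mem_T hw t.2⟩ : T) = (⟨a, ha⟩ : T)⁻¹ * t * ⟨a, ha⟩ := rfl
      rw [e1, map_mul, map_mul, map_inv, mul_right_comm, inv_mul_cancel, one_mul]
    exact ⟨v, h1 ▸ hv, h0⟩
  | cons i ω ih =>
    have hk : Rp cs R.nsys (cs.wordProd ω) ((n i)⁻¹ * a) := by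
      have h1 := (rp_simple cs R.nsys i).inv.mul hw
      rwa [wordProd_cons, inv_mul_cancel_left] at h1
    obtain ⟨v', h1, h2⟩ := ih (cj_cjl hk ν) (fun j hj => hω j (List.mem_cons_of_mem _ hj)) hk
    refine ⟨_, h1.rp R (rp_simple cs R.nsys i) fun t ht ht' => ?_, move_simple R hP (hω i List.mem_cons_self) h1 h2⟩
    rw [hc t ht (conj_mem_T hw ht), cjl_apply _ _ ht' (conj_mem_T hk ht')]
    congr 2
    group

end Cfsg.Agent.ODD.Lev
end

-- part: ODD/Lev/Lev
section
set_option linter.all false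
open scoped Cfsg.Agent.FastGrp

/-!
# ODD, box LEV: `lev : LEV`, `levq : LEVQ` (helper97)
-/

set_option autoImplicit false
set_option linter.unusedSectionVars false

namespace Cfsg.Agent.ODD.Lev

open Cfsg Module CoxeterSystem Cfsg.Agent.ChevalleyStructure.CoxeterGeom Cfsg.Agent.Tits.Roots Cfsg.Agent.Tits.Core
  Cfsg.Agent.Tits.Exchange Cfsg.Agent.Nodes.Reps Cfsg.Agent.Nodes.BNOf Cfsg.Agent.Nodes.StabComb
  Cfsg.Agent.Nodes.Bruhat Cfsg.Agent.Nodes.LeviDec Cfsg.Agent.H381.OQ Cfsg.Agent.H684.OQ Cfsg.Agent.H53.HC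
  Cfsg.Agent.Characters

variable {I W Y : Type} [Fintype I] [DecidableEq I] [Group W] [Finite W] [Group Y] [Finite Y]
  {M : CoxeterMatrix I} {cs : CoxeterSystem M W} {A : I → I → ℤ} {h : IsCartan M A} {p : ℕ} {T : Subgroup Y}
  {n : I → Y} {X : (I → ℤ) → Subgroup Y} (R : RGD cs h p T n X)

include R

/-- a weight vector in the representation of an irreducible character over `lam` -/
theorem exists_wt_of_mB {V : Type} [AddCommGroup V] [Module ℂ V] [FiniteDimensional ℂ V] (ρ : Representation ℂ Y V)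
    {lam : ↥T →* ℂˣ} (h0 : mB R lam ρ.character ≠ 0) : ∃ v, v ≠ 0 ∧ Wt cs h X ρ lam v := by
  have := Fintype.ofFinite (RGD.B cs h T X)
  rw [mB, finsum_eq_sum_of_fintype] at h0
  obtain ⟨v, h1, h2⟩ := exists_eig (σ := ρ) (infl R lam) (right_ne_zero_of_mul h0)
  exact ⟨v, h1, wt_of_infl R h2⟩

theorem normal_VJ (J : Set I) : ((VJ cs h X J).subgroupOf (PJ cs h T X J)).Normal :=
  (Subgroup.normal_subgroupOf_iff_le_normalizer VJ_le_PJ).2 (PJ_le_normalizer_VJ R J)

/-- **The constituents of the restriction to `P_J`**: a constituent on which `V_J` acts trivially has a `B`-eigenvector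
whose weight is conjugate to `lam`; the weight can be moved by `W_J`. -/
theorem exists_eig_PJ (hG : GG cs h T X = ⊤) {V V' : Type} [AddCommGroup V] [Module ℂ V] [FiniteDimensional ℂ V]
    [AddCommGroup V'] [Module ℂ V'] [FiniteDimensional ℂ V'] {ρ : Representation ℂ Y V} (hρ : ρ.IsIrreducible)
    {lam : ↥T →* ℂˣ} (h0 : mB R lam ρ.character ≠ 0) {J : Set I} [Fintype (PJ cs h T X J)]
    {σ : Representation ℂ (PJ cs h T X J) V'}
    (hin : classInner σ.character (fun x : PJ cs h T X J => ρ.character x) ≠ 0)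
    (hQ : ∀ q : PJ cs h T X J, (q : Y) ∈ VJ cs h X J → ∀ y, σ q y = y) :
    ∃ k ∈ NN cs R.nsys, ∃ ν : ↥T →* ℂˣ, Cj T ν lam k ∧ ∀ (ν' : ↥T →* ℂˣ), ∀ a ∈ NN cs R.nsys, a ∈ PJ cs h T X J →
      Cj T ν' ν a → ∃ y : V', y ≠ 0 ∧ ∀ b : RGD.B cs h T X, σ ⟨b, B_le_PJ b.2⟩ y = ((infl R ν' b : ℂˣ) : ℂ) • y := by
  obtain ⟨v₀, hv0, hv⟩ := exists_wt_of_mB R ρ h0
  have h1 := Core.classInner_character σ (ρ.comp (PJ cs h T X J).subtype)
  have h2 : finrank ℂ (Representation.IntertwiningMap (ρ.comp (PJ cs h T X J).subtype) σ) ≠ 0 := fun h3 => by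
    rw [h3, Nat.cast_zero] at h1
    exact hin h1
  have h3 : Nontrivial (Representation.IntertwiningMap (ρ.comp (PJ cs h T X J).subtype) σ) :=
    Module.nontrivial_of_finrank_pos (Nat.pos_of_ne_zero h2)
  obtain ⟨f, hf⟩ := exists_ne (0 : Representation.IntertwiningMap (ρ.comp (PJ cs h T X J).subtype) σ)
  have hfi : ∀ a (ha : a ∈ PJ cs h T X J) y, f.toLinearMap (ρ a y) = σ ⟨a, ha⟩ (f.toLinearMap y) := fun a ha y =>
    LinearMap.congr_fun (f.isIntertwining' ⟨a, ha⟩) y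
  have hN : LinearMap.ker f.toLinearMap ≠ ⊤ := fun h4 => hf (by
    ext1
    exact LinearMap.ker_eq_top.1 h4)
  have hP : ∀ a ∈ PJ cs h T X J, ∀ y ∈ LinearMap.ker f.toLinearMap, ρ a y ∈ LinearMap.ker f.toLinearMap :=
    fun a ha y hy => by rw [LinearMap.mem_ker, hfi a ha, LinearMap.mem_ker.1 hy, map_zero]
  obtain ⟨k, hk, ν, v, h4, h5, h6⟩ := exists_wt R hG hρ hv0 hv hN hP fun q hq y => by
    rw [LinearMap.mem_ker, map_sub, hfi q (VJ_le_PJ hq), hQ _ hq, sub_self]
  refine ⟨k, hk, ν, h4, fun ν' a ha haP hc => ?_⟩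
  obtain ⟨v', h7, h8⟩ := move R hP h5 h6 ha haP hc
  exact ⟨f.toLinearMap v', h8, fun b => by rw [← hfi, h7.infl R b, map_smul]⟩

omit R in
theorem cj_one (ν : ↥T →* ℂˣ) : Cj T ν ν 1 := fun t ht ht' => by
  congr 2
  group

theorem infl_conj (ν : ↥T →* ℂˣ) {b t : Y} (hb : b ∈ RGD.B cs h T X) (ht : t ∈ T)
    (h1 : b * t * b⁻¹ ∈ RGD.B cs h T X) : infl R ν ⟨b * t * b⁻¹, h1⟩ = ν ⟨t, ht⟩ := by
  have e1 : (⟨b * t * b⁻¹, h1⟩ : RGD.B cs h T X) = ⟨b, hb⟩ * ⟨t, RGD.T_le_B ht⟩ * (⟨b, hb⟩ : RGD.B cs h T X)⁻¹ := rfl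
  rw [e1, map_mul, map_mul, map_inv, mul_right_comm, mul_inv_cancel, one_mul, infl_T R ν ht]

variable {R}

theorem In.mu_eq {J : Set I} {μ : ↥(PJ cs h T X J) →* ℂˣ} {lam : ↥T →* ℂˣ} {D : Subgroup Y} (H : In R J μ lam D)
    (b : RGD.B cs h T X) : μ ⟨b, B_le_PJ b.2⟩ = infl R lam b := by
  obtain ⟨t, ht, u, hu, e⟩ := R.mem_B.1 b.2
  have e1 : b = ⟨t, RGD.T_le_B ht⟩ * ⟨u, RGD.U_le_B hu⟩ := Subtype.ext e
  have e2 : (⟨b, B_le_PJ b.2⟩ : PJ cs h T X J) =
      ⟨t, B_le_PJ (RGD.T_le_B ht)⟩ * ⟨u, B_le_PJ (RGD.U_le_B hu)⟩ := Subtype.ext e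
  rw [e2, map_mul, H.muT t ht, H.muU u hu, e1, map_mul, infl_T R lam ht, infl_U R lam hu]

/-- the congruence for one constituent -/
theorem In.ev_irr {J : Set I} {μ : ↥(PJ cs h T X J) →* ℂˣ} {lam : ↥T →* ℂˣ} {D : Subgroup Y} (H : In R J μ lam D)
    (hG : GG cs h T X = ⊤) (hrat : RatB (RGD.B cs h T X) (PJ cs h T X J)) {θ : Y → ℂ} (hθ : IsIrrCharacter Y θ)
    (h0 : mB R lam θ ≠ 0) [Fintype (PJ cs h T X J)] {χ : PJ cs h T X J → ℂ} (hχ : IsIrrCharacter _ χ)
    (hin : classInner χ (fun x : PJ cs h T X J => θ x) ≠ 0) (g : PJ cs h T X J) {e : ℕ} (he : g ^ 2 ^ e = 1)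
    (hg : ∀ d ∈ D, d * (g : Y) = g * d) : Ev (χ g - μ g * χ 1) := by
  obtain ⟨m, ρ, hρ, rfl⟩ := hθ
  have hχ' := hχ
  obtain ⟨k, σ, hσ, rfl⟩ := hχ
  have hD : IsPGroup 2 (D.subgroupOf (PJ cs h T X J)) := H.two.comap_subtype
  have hg' : ∀ d ∈ D.subgroupOf (PJ cs h T X J), d * g = g * d := fun d hd => Subtype.ext (hg d hd)
  have fin : (∀ x, (∀ d ∈ D.subgroupOf (PJ cs h T X J), d * x = x * d) → Ev (σ.character x)) →
      Ev (σ.character g - μ g * σ.character 1) := fun h1 =>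
    (h1 g hg').sub ((h1 1 fun d _ => by rw [mul_one, one_mul]).mul_left (isIntegral_hom μ g))
  have := normal_VJ R J
  rcases triv_or_ev hσ ((VJ cs h X J).subgroupOf (PJ cs h T X J)) hD (fun v hv hc => Subtype.ext
    (H.cV v hv fun d hd => congrArg Subtype.val (hc ⟨d, H.le hd⟩ hd))) with h1 | h1
  swap
  · exact fin h1
  obtain ⟨c, hc, ν, h2, h3⟩ := exists_eig_PJ R hG hρ h0 hin h1
  rcases H.wt ν c hc h2 with rfl | ⟨ν', a, K, ha, haP, h4, hBK, h5, h6⟩
  · obtain ⟨y, hy0, hy⟩ := h3 ν 1 (one_mem _) (one_mem _) (cj_one ν)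
    have hψ := CharactersDeep.ExtUnique.isIrr_mul_hom hχ' μ⁻¹
    have := Fintype.ofFinite (RGD.B cs h T X)
    have h7 := hrat B_le_PJ _ hψ (by
      let i : RGD.B cs h T X →* PJ cs h T X J := Subgroup.inclusion B_le_PJ
      have := Fintype.ofFinite (⊤ : Subgroup (RGD.B cs h T X))
      have h8 := sum_ne_zero (σ := σ.comp i) ((infl R ν).comp (⊤ : Subgroup (RGD.B cs h T X)).subtype) hy0
        fun u => hy u
      rw [finsum_eq_sum_of_fintype]
      refine fun h9 => h8 (Eq.trans ?_ h9)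
      refine Fintype.sum_equiv Subgroup.topEquiv.toEquiv _ _ fun u => ?_
      rw [mul_comm, MonoidHom.inv_apply, H.mu_eq]
      rfl)
    have h8 := (ev_sub_one (Core.isIrr_isCharacter hψ) he fun s => h7 s g).mul_left (isIntegral_hom μ g)
    rwa [MonoidHom.inv_apply, map_one, Units.val_one, mul_one, mul_sub, mul_left_comm, Units.mul_inv, mul_one] at h8
  · obtain ⟨y, hy0, hy⟩ := h3 ν' a ha haP h4
    let i : (RGD.B cs h T X).subgroupOf (PJ cs h T X J) →* RGD.B cs h T X :=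
      (Subgroup.subgroupOfEquivOfLe B_le_PJ).toMonoidHom
    refine fin fun x hx => ev_of_ind hσ (B := (RGD.B cs h T X).subgroupOf (PJ cs h T X J))
      (H := K.subgroupOf (PJ cs h T X J)) (fun _ hb => hBK hb) ((infl R ν').comp i) hy0 (fun b => hy (i b))
      (fun z hz => ?_) hD (fun z => ?_) hx
    · obtain ⟨w, -, b₁, hb₁, c, hc, b₂, hb₂, e⟩ := (mem_PJ_iff_cell R).1 z.2
      have hcP : c ∈ PJ cs h T X J := by
        have e1 : c = b₁⁻¹ * z * b₂⁻¹ := by rw [e]; group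
        rw [e1]
        exact mul_mem (mul_mem (inv_mem (B_le_PJ hb₁)) z.2) (inv_mem (B_le_PJ hb₂))
      have h7 : ¬ Cj T ν' ν' c := fun h7 => hz (by
        rw [Subgroup.mem_subgroupOf, e]
        exact mul_mem (mul_mem (hBK hb₁) (h6 c ⟨w, hc⟩ hcP h7)) (hBK hb₂))
      unfold Cj at h7
      push Not at h7
      obtain ⟨t, ht, ht', hne⟩ := h7
      have h8 : b₁ * t * b₁⁻¹ ∈ RGD.B cs h T X := mul_mem (mul_mem hb₁ (RGD.T_le_B ht)) (inv_mem hb₁)
      have e2 : (z : Y)⁻¹ * (b₁ * t * b₁⁻¹) * z = b₂⁻¹ * (c⁻¹ * t * c) * b₂⁻¹⁻¹ := by rw [e]; group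
      have h9 : b₂⁻¹ * (c⁻¹ * t * c) * b₂⁻¹⁻¹ ∈ RGD.B cs h T X :=
        mul_mem (mul_mem (inv_mem hb₂) (RGD.T_le_B ht')) (inv_mem (inv_mem hb₂))
      refine ⟨⟨_, B_le_PJ h8⟩, h8, (show (z : Y)⁻¹ * (b₁ * t * b₁⁻¹) * z ∈ _ from e2 ▸ h9), fun h10 => hne ?_⟩
      rw [← infl_conj R ν' hb₁ ht h8, ← infl_conj R ν' (inv_mem hb₂) ht' h9]
      refine Eq.trans h10 (congrArg (infl R ν') (Subtype.ext e2))
    · obtain ⟨d, hd, hne⟩ := h5 z z.2
      exact ⟨⟨d, H.le hd⟩, hd, hne⟩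

omit R in
/-- **LEV** -/
theorem lev : LEV := by
  intro I W Y _ _ _ _ _ _ M cs A h p T n X R J μ lam D _ _ hG H hrat θ hθ h0 g hg e he hc
  have := Fintype.ofFinite (PJ cs h T X J)
  have := Core.finite_irr (G := PJ cs h T X J)
  have := Fintype.ofFinite (IrrCharacter (PJ cs h T X J))
  obtain ⟨m, hm⟩ := Core.exists_nat_comb (Core.isCharacter_comp (PJ cs h T X J).subtype (Core.isIrr_isCharacter hθ))
  have h1 : θ g - μ ⟨g, hg⟩ * θ 1 = ∑ ψ : IrrCharacter (PJ cs h T X J),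
      m ψ * (ψ.1 ⟨g, hg⟩ - μ ⟨g, hg⟩ * ψ.1 1) := by
    have h2 : θ g = _ := congrFun hm ⟨g, hg⟩
    have h3 : θ 1 = _ := congrFun hm 1
    rw [h2, h3, Finset.sum_apply, Finset.sum_apply, Finset.mul_sum, ← Finset.sum_sub_distrib]
    refine Finset.sum_congr rfl fun ψ _ => ?_
    rw [Pi.smul_apply, Pi.smul_apply, nsmul_eq_mul, nsmul_eq_mul]
    ring
  rw [h1]
  refine Ev.sum _ fun ψ _ => ?_
  by_cases h2 : m ψ = 0
  · rw [h2, Nat.cast_zero, zero_mul]
    exact Ev.zero
  refine Ev.mul_left (isIntegral_nat _) (H.ev_irr hG hrat hθ h0 ψ.2 ?_ ⟨g, hg⟩ (Subtype.ext he) hc)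
  have h3 := Core.classInner_sum_nsmul_irr m ψ
  rw [← hm] at h3
  rw [← Core.classInner_conj_symm, map_ne_zero]
  exact fun h4 => h2 (by exact_mod_cast h3.symm.trans h4)

omit R in
/-- **LEV**, the form for `QA` -/
theorem levq : LEVQ := by
  intro I W Y _ _ _ _ _ _ M cs A h p T n X R J μ lam D hp hp2 hG H hrat θ hθ hodd h0 g hg e he hc h2 s hs
  have h1 := lev R J μ lam D hp hp2 hG H hrat θ hθ h0 g hg e he hc
  obtain ⟨d, hd⟩ := Core.isCharacter_apply_one (Core.isIrr_isCharacter hθ)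
  have hd' : charDegree θ = d := by
    unfold charDegree
    rw [hd]
    simp
  obtain ⟨k, hk⟩ := hodd
  have h3 : θ g - μ ⟨g, hg⟩ = θ g - μ ⟨g, hg⟩ * θ 1 + 2 * (k * μ ⟨g, hg⟩) := by
    rw [hd, ← hd', hk]
    push_cast
    ring
  refine not_fix (e := e) (ω := μ ⟨g, hg⟩) ?_ ?_
    (char_mem_cyc (Core.isIrr_isCharacter hθ) (pow_ne_zero e two_ne_zero) he) ?_ hs
  · rw [← Units.val_pow_eq_pow_val, ← map_pow, show (⟨g, hg⟩ : PJ cs h T X J) ^ 2 ^ e = 1 from Subtype.ext he, map_one,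
      Units.val_one]
  · rw [← Units.val_pow_eq_pow_val]
    exact fun h4 => h2 (Units.ext h4)
  · rw [h3]
    exact h1.add (ev_two_mul ((isIntegral_nat k).mul (isIntegral_hom μ _)))

end Cfsg.Agent.ODD.Lev
end
end

-- part: ODD/Lev/Rat
section
set_option linter.all false
open scoped Cfsg.Agent.FastGrp

/-!
# ODD, box LEV: `rata : HOA → RATA` (helper97)
-/

set_option autoImplicit false
set_option linter.unusedSectionVars false

namespace Cfsg.Agent.ODD.Lev

open Cfsg Module CoxeterSystem Cfsg.Agent.ChevalleyStructure.CoxeterGeom Cfsg.Agent.Tits.Roots Cfsg.Agent.Tits.Core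
  Cfsg.Agent.Tits.Exchange Cfsg.Agent.Nodes.Reps Cfsg.Agent.Nodes.BNOf Cfsg.Agent.Nodes.StabComb
  Cfsg.Agent.Nodes.Bruhat Cfsg.Agent.Nodes.LeviDec Cfsg.Agent.H381.OQ Cfsg.Agent.H684.OQ Cfsg.Agent.H53.HC
  Cfsg.Agent.Characters Cfsg.Agent.ODD.AH Cfsg.Agent.ODD.Hk

section emb

variable {Y : Type} [Group Y] (P : Subgroup Y)

/-- the group algebra of a subgroup inside the group algebra -/
noncomputable def emb : Al P →ₐ[ℂ] Al Y := MonoidAlgebra.mapDomainAlgHom ℂ ℂ P.subtype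

theorem emb_dl (g : P) : emb P (dl g) = dl (g : Y) := by
  simp [emb, dl]

theorem emb_injective : Function.Injective (emb P) :=
  MonoidAlgebra.mapDomain_injective (R := ℂ) P.subtype_injective

variable {P} [Finite Y]

theorem emb_av {B : Subgroup Y} (hB : B ≤ P) : emb P (av (1 : B.subgroupOf P →* ℂˣ)) = av (1 : B →* ℂˣ) := by
  have := Fintype.ofFinite B
  have := Fintype.ofFinite (B.subgroupOf P)
  rw [av_def, av_def, map_smul, map_sum, Nat.card_congr (Subgroup.subgroupOfEquivOfLe hB).toEquiv]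
  congr 1
  refine Fintype.sum_equiv (Subgroup.subgroupOfEquivOfLe hB).toEquiv _ _ fun u => ?_
  rw [map_smul, emb_dl]
  rfl

theorem tw_av (s : ℂ ≃+* ℂ) (B : Subgroup Y) : tw s (MulEquiv.refl Y) (av (1 : B →* ℂˣ)) = av (1 : B →* ℂˣ) := by
  have := Fintype.ofFinite B
  rw [av_def, tw_smul, map_sum, map_inv₀, map_natCast]
  congr 1
  refine Finset.sum_congr rfl fun u _ => ?_
  rw [MonoidHom.one_apply, inv_one, Units.val_one, one_smul, tw_dl]
  rfl

end emb

theorem quad_of {V : Type} [AddCommGroup V] [Module ℂ V] {x : End ℂ V} {q : ℂ} (hq : q ≠ 0)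
    (hx : x * x = q⁻¹ • (1 + (q - 1) • x)) : (q • x - q • (1 : End ℂ V)) * (q • x + 1) = 0 := by
  rw [sub_mul, mul_add, mul_add, smul_mul_smul_comm, hx, smul_smul, mul_inv_cancel_right₀ hq, smul_mul_smul_comm,
    one_mul, mul_one, mul_one]
  module

variable {I W Y : Type} [Fintype I] [DecidableEq I] [Group W] [Finite W] [Group Y] [Finite Y]
  {M : CoxeterMatrix I} {cs : CoxeterSystem M W} {A : I → I → ℤ} {h : IsCartan M A} {p : ℕ} {T : Subgroup Y}
  {n : I → Y} {X : (I → ℤ) → Subgroup Y} (R : RGD cs h p T n X)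

include R

theorem eB_one : eB R 1 = av (1 : RGD.B cs h T X →* ℂˣ) := rfl

theorem ta_t_eB {t : Y} (ht : t ∈ T) : ta cs h X t * eB R 1 = eB R 1 := by
  rw [ta_t R ht, mul_assoc, eU_mul_eB, t_mul_eB R 1 ht, MonoidHom.one_apply, Units.val_one, one_smul]

theorem eB_ta_eB {w : W} {k : Y} (hk : Rp cs R.nsys w k) :
    eB R 1 * (ta cs h X k * eB R 1) = ta cs h X k * eB R 1 := by
  refine eB_mul_eq R 1 (by rw [← mul_assoc, eU_mul_ta]) fun t ht => ?_
  have ht' : k⁻¹ * t * k ∈ T := by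
    have := (Subgroup.mem_normalizer_iff.1 (inv_mem hk.mem_normalizer) t).1 ht
    rwa [inv_inv] at this
  have e1 : t * k = k * (k⁻¹ * t * k) := by group
  rw [MonoidHom.one_apply, Units.val_one, one_smul, ← eU_mul_ta, ← mul_assoc, ← mul_assoc, ← ta_t R ht, ← ta_t_mul R ht,
    e1, ta_mul_t R ht', mul_assoc, ta_t_eB R ht', eU_mul_ta]

theorem eB_dl_eB {w : W} {k : Y} (hk : Rp cs R.nsys w k) : eB R 1 * dl k * eB R 1 = ta cs h X k * eB R 1 := by
  rw [← eB_ta_eB R hk]
  unfold ta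
  rw [mul_assoc _ (eU cs h X), eU_mul_eB, ← mul_assoc, ← mul_assoc, eB_mul_eU]

theorem hk_mul {i : I} {w : W} {k : Y} (hk : Rp cs R.nsys w k) (hl : cs.length w < cs.length (cs.simple i * w)) :
    eB R 1 * dl (n i) * eB R 1 * (eB R 1 * dl k * eB R 1) = eB R 1 * dl (n i * k) * eB R 1 := by
  rw [eB_dl_eB R (rp_simple cs R.nsys i), eB_dl_eB R hk, eB_dl_eB R ((rp_simple cs R.nsys i).mul hk), mul_assoc,
    eB_ta_eB R hk, ← mul_assoc, ta_n_mul R hk hl]

theorem hk_sq (i : I) : eB R 1 * dl (n i) * eB R 1 * (eB R 1 * dl (n i) * eB R 1) =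
    (Nat.card (X (sr i)) : ℂ)⁻¹ • (eB R 1 + ((Nat.card (X (sr i)) : ℂ) - 1) • (eB R 1 * dl (n i) * eB R 1)) := by
  classical
  have := Fintype.ofFinite (X (sr i))
  have hn := rp_simple cs R.nsys i
  have hz : n i * n i ∈ T := R.sq_mem_T i
  rw [eB_dl_eB R hn, mul_assoc, eB_ta_eB R hn, ← mul_assoc, ta_sq R i, smul_mul_assoc, Finset.sum_mul,
    ← Finset.add_sum_erase _ _ (Finset.mem_univ 1), if_pos rfl, ta_t_eB R hz]
  congr 2
  have h1 : ∀ x ∈ Finset.univ.erase (1 : X (sr i)), (if x = 1 then ta cs h X (n i * n i) else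
      ta cs h X (tx R i x) * ta cs h X (n i) * ta cs h X (n i * n i)) * eB R 1 = ta cs h X (n i) * eB R 1 := by
    intro x hx
    rw [if_neg (Finset.mem_erase.1 hx).1, mul_assoc, ta_t_eB R hz, mul_assoc, ← eB_ta_eB R hn, ← mul_assoc,
      ta_t_eB R (tx_mem R i x)]
  rw [Finset.sum_congr rfl h1, Finset.sum_const, Finset.card_erase_of_mem (Finset.mem_univ _), Finset.card_univ,
    ← Nat.card_eq_fintype_card, ← Nat.cast_smul_eq_nsmul ℂ, Nat.cast_sub Nat.card_pos, Nat.cast_one]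

theorem map_qc (s : ℂ ≃+* ℂ) (w : W) : s (qc R w) = qc R w := by
  unfold qc
  rw [map_div₀, map_natCast, map_natCast]

omit R in
/-- **The constituents of `1_B^(P_J)` are rational for `J` of type `A × ⋯ × A`.** -/
theorem rata (hA : HOA) : RATA := by
  intro I W Y _ _ _ _ _ _ M cs A h p T n X R J hJ hBP χ hχ h0 s g
  let P := PJ cs h T X J
  obtain ⟨e, hed⟩ : ∃ e : Al P, e = av (1 : (RGD.B cs h T X).subgroupOf P →* ℂˣ) := ⟨_, rfl⟩
  have he : e * e = e := by rw [hed, av_mul_av]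
  have hee : emb P e = eB R 1 := by rw [hed, emb_av hBP, eB_one]
  have hb : ∀ b (hb : b ∈ RGD.B cs h T X), e * dl ⟨b, hBP hb⟩ = e ∧ dl ⟨b, hBP hb⟩ * e = e := fun b hb => by
    have h1 := av_mul_dl (1 : (RGD.B cs h T X).subgroupOf P →* ℂˣ) ⟨⟨b, hBP hb⟩, hb⟩
    have h2 := dl_mul_av (1 : (RGD.B cs h T X).subgroupOf P →* ℂˣ) ⟨⟨b, hBP hb⟩, hb⟩
    rw [MonoidHom.one_apply, Units.val_one, one_smul, ← hed] at h1 h2
    exact ⟨h1, h2⟩
  choose k hk using fun w : WJ cs J => exists_rp cs R.nsys (w : W)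
  have hkP : ∀ w, k w ∈ P := fun w => LJ_le_PJ (rp_mem_LJ R w.2 (hk w))
  obtain ⟨t, htd⟩ : ∃ t : WJ cs J → Al P, ∀ w, t w = e * dl ⟨k w, hkP w⟩ * e := ⟨_, fun _ => rfl⟩
  have ht : ∀ (w : WJ cs J) c (hc : c ∈ P), Rp cs R.nsys w c → e * dl ⟨c, hc⟩ * e = t w := fun w c hc hw => by
    have h1 := (hk w).unique hw
    have e1 : (⟨c, hc⟩ : P) = ⟨k w, hkP w⟩ * ⟨_, hBP (RGD.T_le_B h1)⟩ := Subtype.ext (mul_inv_cancel_left _ _).symm
    rw [e1, dl_mul, ← mul_assoc, mul_assoc _ _ e, (hb _ (RGD.T_le_B h1)).2, htd]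
  have hx : ∀ x : P, ∃ w, e * dl x * e = t w := fun x => by
    obtain ⟨w, hw, b₁, hb₁, c, hc, b₂, hb₂, e1⟩ := (mem_PJ_iff_cell R).1 x.2
    have hcP : c ∈ P := LJ_le_PJ (rp_mem_LJ R hw hc)
    have e2 : x = ⟨b₁, hBP hb₁⟩ * ⟨c, hcP⟩ * ⟨b₂, hBP hb₂⟩ := Subtype.ext e1
    refine ⟨⟨w, hw⟩, ?_⟩
    rw [← ht ⟨w, hw⟩ c hcP hc, e2, dl_mul, dl_mul, ← mul_assoc, ← mul_assoc, (hb _ hb₁).1, mul_assoc _ _ e, (hb _ hb₂).2]
  have het : ∀ w, e * t w = t w := fun w => by rw [htd, ← mul_assoc, ← mul_assoc, he]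
  have hte : ∀ w, t w * e = t w := fun w => by rw [htd, mul_assoc, he]
  have hsi : ∀ j : J, emb P (t ((csJ cs J).simple j)) = eB R 1 * dl (n j) * eB R 1 := fun j => by
    rw [← ht _ (n j) (LJ_le_PJ (n_mem_LJ R j.2)) (by rw [csJ_simple]; exact rp_simple cs R.nsys j), map_mul, map_mul,
      hee, emb_dl]
  have hm0 : lin χ e ≠ 0 := by
    have := Fintype.ofFinite (RGD.B cs h T X)
    have := Fintype.ofFinite ((RGD.B cs h T X).subgroupOf P)
    rw [finsum_eq_sum_of_fintype] at h0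
    rw [hed, av_def, map_smul, map_sum, smul_eq_mul]
    refine mul_ne_zero (inv_ne_zero (card_ne _)) fun h1 => h0 (Eq.trans ?_ h1)
    refine (Fintype.sum_equiv (Subgroup.subgroupOfEquivOfLe hBP).toEquiv _ _ fun u => ?_).symm
    rw [MonoidHom.one_apply, inv_one, Units.val_one, one_smul, lin_dl]
    rfl
  have hfix : ∀ (s : ℂ ≃+* ℂ) w, s (lin χ (t w)) = lin χ (t w) := by
    obtain ⟨m, ρ, hρ, rfl⟩ := hχ
    obtain ⟨V, r, h1, -, h3, h4⟩ := exists_crn ρ hρ he
    intro s w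
    have h5 := hA J (WJ cs J) V (MJ M J) (csJ cs J) (fun w => qc R (w : W) • r (t w))
      (fun j => (Nat.card (X (sr (j : I))) : ℚ))
      ⟨fun i _ j _ => hJ.1 i i.2 j j.2, fun i _ a _ b _ c _ ha hb hc =>
        (hJ.2 i i.2 a a.2 b b.2 c c.2 ha hb hc).imp Subtype.ext (Or.imp Subtype.ext Subtype.ext)⟩
      (fun j => by exact_mod_cast Nat.card_pos) ?_ (fun j w hl => ?_) (fun j => ?_)
      (fun U hU => irr_of_all fun f v hv => ?_) s w
    · rw [map_smul, h3, hte, smul_eq_mul, map_mul, map_qc] at h5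
      exact mul_left_cancel₀ (qc_ne R _) h5
    · show qc R 1 • r (t 1) = 1
      rw [qc_one, one_smul, ← ht 1 1 (one_mem _) rp_one, show (⟨1, one_mem _⟩ : P) = 1 from rfl, dl_one, mul_one, he,
        h1.one]
    · rw [csJ_length, csJ_length, Subgroup.coe_mul, csJ_simple] at hl
      show qc R _ • r _ * qc R _ • r _ = qc R _ • r _
      have h7 : Rp cs R.nsys (((csJ cs J).simple j * w : WJ cs J) : W) (n j * k w) := by
        rw [Subgroup.coe_mul, csJ_simple]
        exact (rp_simple cs R.nsys j).mul (hk w)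
      have h6 : t ((csJ cs J).simple j) * t w = t ((csJ cs J).simple j * w) := emb_injective P (by
        rw [map_mul, hsi, ← ht ((csJ cs J).simple j * w) (n j * k w) (mul_mem (LJ_le_PJ (n_mem_LJ R j.2)) (hkP w)) h7,
          htd, map_mul, map_mul, map_mul, map_mul, hee, emb_dl, emb_dl]
        exact hk_mul R (hk w) hl)
      rw [smul_mul_smul_comm, ← h1.mul _ _ (het w), h6, Subgroup.coe_mul, csJ_simple, qc_mul_simple R hl, qc_simple]
    · show (qc R _ • r _ - _) * (qc R _ • r _ + 1) = 0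
      have hq : (Nat.card (X (sr (j : I))) : ℂ) ≠ 0 := card_ne _
      have h6 : t ((csJ cs J).simple j) * t ((csJ cs J).simple j) = (Nat.card (X (sr (j : I))) : ℂ)⁻¹ •
          (e + ((Nat.card (X (sr (j : I))) : ℂ) - 1) • t ((csJ cs J).simple j)) := emb_injective P (by
        rw [map_mul, map_smul, map_add, map_smul, hsi, hee]
        exact hk_sq R j)
      have h7 := congrArg r h6
      rw [h1.mul _ _ (het _), map_smul, map_add, map_smul, h1.one] at h7
      rw [csJ_simple, qc_simple, Rat.cast_natCast]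
      exact quad_of hq h7
    · obtain ⟨x, rfl⟩ := h4 f
      induction x using al_induction with
      | hd x =>
        obtain ⟨w, hw⟩ := hx x
        have h6 := U.smul_mem (qc R (w : W))⁻¹ (hU w v hv)
        rwa [LinearMap.smul_apply, smul_smul, inv_mul_cancel₀ (qc_ne R _), one_smul, ← hw] at h6
      | ha a b ha hb =>
        rw [mul_add, add_mul, map_add, LinearMap.add_apply]
        exact add_mem ha hb
      | hs c a ha =>
        rw [mul_smul_comm, smul_mul_assoc, map_smul, LinearMap.smul_apply]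
        exact U.smul_mem c ha
  have hχ' := Characters.GaloisIrr.isIrr_map s.symm hχ
  have key := eq_of_corner hχ hχ' he hm0 fun x => by
    induction x using al_induction with
    | hd x =>
      obtain ⟨w, hw⟩ := hx x
      have h1 := lin_tw s (MulEquiv.refl P) χ (e * dl x * e)
      have h2 : tw s (MulEquiv.refl P) e = e := by rw [hed, tw_av]
      rw [map_mul (tw s _), map_mul (tw s _), h2, tw_dl, MulEquiv.refl_apply] at h1
      apply s.injective
      refine h1.symm.trans ?_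
      show lin χ (e * dl x * e) = s (lin χ (e * dl x * e))
      rw [hw, hfix]
    | ha a b ha hb => rw [mul_add, add_mul, map_add, map_add, ha, hb]
    | hs c a ha => rw [mul_smul_comm, smul_mul_assoc, map_smul, map_smul, ha]
  conv_lhs => rw [← congrFun key g]
  exact s.apply_symm_apply _

end Cfsg.Agent.ODD.Lev

private theorem dce_e611fa620f25 : _root_.True := by
  try have : _root_.True := by simp only [_root_.Cfsg.Agent.ODD.Lev.emb.eq_1]
  exact _root_.True.intro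
end

-- part: ODD/Lev/Main
section
set_option linter.all false

/-!
# ODD, box LEV (helper97): `lev : LEV`, `levq : LEVQ`, `ratA : RATA`, all unconditional
-/

set_option autoImplicit false

namespace Cfsg.Agent.ODD.Lev

/-- the constituents of `1_B^(P_J)` are rational if `J` is of type `A × ⋯ × A` -/
theorem ratA : RATA := rata Hk.hoa

end Cfsg.Agent.ODD.Lev
end
end
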